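import Cfsg.Agent.H976.Cop.RowRank1
import Cfsg.Agent.H505.Cop.Rgd
import Cfsg.Agent.H716.RGDAb
import Cfsg.Agent.S1059
import Cfsg.Agent.S1067
import Cfsg.Agent.S1106
import Cfsg.Agent.ChevalleyStructure.TwD4Card
import Cfsg.Agent.Nodes.RGDTwD4

/-!
# Rows `F₄(q)`, `G₂(q)`, `³D₄(q)` of S4175
-/

set_option autoImplicit false

namespace Cfsg.Agent.H976.RowFG

open CoxeterSystem Cfsg.Agent.ChevalleyStructure.CoxeterGeom Cfsg.Agent.Tits.Roots Cfsg.Agent.Tits.Core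
  Cfsg.Agent.Tits.Exchange Cfsg.Agent.Nodes.Reps Cfsg.Agent.Nodes.BNOf Cfsg.Agent.Nodes.StabComb
  Cfsg.Agent.Nodes.Bruhat Cfsg.Agent.Nodes.OppDec Cfsg.Agent.Nodes.LeviDec Cfsg.Agent.Nodes.NormalForm
open Cfsg.Agent.H934.RowOrb
open Cfsg.Lie Cfsg.Agent.ChevalleyStructure Cfsg.Agent.H35.ExcIdx Cfsg.Agent.H35.PoinNum
  Cfsg.Agent.Nodes.RGDChev Cfsg.Agent.ChevalleyStructure.CoxeterGeomTypes Cfsg.Agent.ChevalleyStructure.RootVec
  Cfsg.Agent.ChevalleyStructure.NPerm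

universe u

/-! ### geometric sums -/

/-- `1 + q + … + q ^ (n - 1)` -/
def Sg (q n : ℕ) : ℕ := ∑ t ∈ Finset.range n, q ^ t

theorem Sg_mul_sub {q : ℕ} (hq : 1 ≤ q) (n : ℕ) : q ^ n - 1 = (q - 1) * Sg q n := by
  unfold Sg
  obtain ⟨x, rfl⟩ : ∃ x, q = x + 1 := ⟨q - 1, by omega⟩
  rw [Nat.add_sub_cancel]
  apply Nat.sub_eq_of_eq_add
  have h3 := mul_geom_sum ((x : ℤ) + 1) n
  zify
  linear_combination -h3

theorem Sg_dvd {q d : ℕ} (m : ℕ) : Sg q d ∣ Sg q (d * m) := by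
  induction m with
  | zero => simp [Sg]
  | succ m ih =>
    have h1 : Sg q (d * (m + 1)) = Sg q (d * m) + q ^ (d * m) * Sg q d := by
      unfold Sg
      rw [Nat.mul_succ, Finset.sum_range_add, Finset.mul_sum]
      congr 1
      exact Finset.sum_congr rfl fun t _ => by rw [pow_add]
    rw [h1]
    exact dvd_add ih (Dvd.intro_left _ rfl)

theorem Sg_two_mul (q d : ℕ) : Sg q (d * 2) = Sg q d * (1 + q ^ d) := by
  unfold Sg
  rw [mul_two, Finset.sum_range_add, mul_add, mul_one, Finset.sum_mul]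
  congr 1
  exact Finset.sum_congr rfl fun t _ => by rw [pow_add, mul_comm]

theorem Sg_pos {q n : ℕ} (hn : 0 < n) : 0 < Sg q n := by
  unfold Sg
  obtain ⟨m, rfl⟩ := Nat.exists_eq_succ_of_ne_zero hn.ne'
  rw [Finset.sum_range_succ', pow_zero]
  omega

/-! ### `F₄` -/

theorem path2 : PathOK CoxeterMatrix.F₄ [2] [2] [] 0 := by constructor <;> decide +kernel
theorem path1 : PathOK CoxeterMatrix.F₄ [1] [1] [] 0 := by constructor <;> decide +kernel

/-- coset representatives, `{1, 2}` over `{2}` -/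
def L1 : List (List (Fin 4)) := [[], [1], [2, 1], [1, 2, 1]]
/-- coset representatives, `{1, 2, 3}` over `{1, 2}` -/
def L3 : List (List (Fin 4)) := [[], [3], [2, 3], [1, 2, 3], [2, 1, 2, 3], [3, 2, 1, 2, 3]]
/-- coset representatives, `{0, 1, 2}` over `{1, 2}` -/
def L0 : List (List (Fin 4)) := [[], [0], [1, 0], [2, 1, 0], [1, 2, 1, 0], [0, 1, 2, 1, 0]]

theorem orb1 : OrbOK (cartanOf chevF4 4) [1, 2] 1 L1 := by constructor <;> decide +kernel
theorem orb3 : OrbOK (cartanOf chevF4 4) [1, 2, 3] 3 L3 := by constructor <;> decide +kernel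
theorem orb0 : OrbOK (cartanOf chevF4 4) [0, 1, 2] 0 L0 := by constructor <;> decide +kernel

theorem sum_L1 (q : ℕ) : (L1.map fun ω => (ω.map fun _ => q).prod).sum = Sg q 4 := by
  simp only [L1, List.map_cons, List.map_nil, List.prod_cons, List.prod_nil, List.sum_cons, List.sum_nil, Sg,
    Finset.sum_range_succ, Finset.sum_range_zero]
  ring

theorem sum_L3 (q : ℕ) : (L3.map fun ω => (ω.map fun _ => q).prod).sum = Sg q 6 := by
  simp only [L3, List.map_cons, List.map_nil, List.prod_cons, List.prod_nil, List.sum_cons, List.sum_nil, Sg,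
    Finset.sum_range_succ, Finset.sum_range_zero]
  ring

theorem sum_L0 (q : ℕ) : (L0.map fun ω => (ω.map fun _ => q).prod).sum = Sg q 6 := by
  simp only [L0, List.map_cons, List.map_nil, List.prod_cons, List.prod_nil, List.sum_cons, List.sum_nil, Sg,
    Finset.sum_range_succ, Finset.sum_range_zero]
  ring

/-- the numbers -/
theorem numF {q i N : ℕ} (hq : 2 ≤ q) (hN : N = Sg q 6 * (Sg q 4 * Sg q 2) ∨ N = Sg q 2 * (Sg q 2 * Sg q 3))
    (h : i * N * (q - 1) ^ 4 = pr q [2, 6, 8, 12]) {s : ℕ} (hs : s.Prime) (hsN : s ∣ N) : s ∣ i := by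
  have h1 : i * N = Sg q 2 * Sg q 6 * Sg q 8 * Sg q 12 := by
    have h2 : 0 < (q - 1) ^ 4 := by
      have : 0 < q - 1 := by omega
      positivity
    apply Nat.eq_of_mul_eq_mul_right h2
    rw [h]
    simp only [pr_cons, pr_nil, Sg_mul_sub (show 1 ≤ q by omega)]
    ring
  have e8 : Sg q 8 = Sg q 4 * (1 + q ^ 4) := Sg_two_mul q 4
  have e4 : Sg q 4 = Sg q 2 * (1 + q ^ 2) := Sg_two_mul q 2
  have e6 : Sg q 6 = Sg q 3 * (1 + q ^ 3) := Sg_two_mul q 3
  have p2 := Sg_pos (q := q) (n := 2) (by norm_num)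
  have p3 := Sg_pos (q := q) (n := 3) (by norm_num)
  have p4 := Sg_pos (q := q) (n := 4) (by norm_num)
  have p6 := Sg_pos (q := q) (n := 6) (by norm_num)
  have hd : Sg q 12 ∣ i := by
    rcases hN with rfl | rfl
    · refine ⟨1 + q ^ 4, ?_⟩
      apply Nat.eq_of_mul_eq_mul_right (show 0 < Sg q 6 * (Sg q 4 * Sg q 2) by positivity)
      rw [h1, e8]
      ring
    · refine ⟨(1 + q ^ 3) * ((1 + q ^ 2) * (1 + q ^ 4)), ?_⟩
      apply Nat.eq_of_mul_eq_mul_right (show 0 < Sg q 2 * (Sg q 2 * Sg q 3) by positivity)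
      rw [h1, e8, e4, e6]
      ring
  refine dvd_trans ?_ hd
  have d2 : Sg q 2 ∣ Sg q 12 := Sg_dvd (q := q) (d := 2) 6
  have d3 : Sg q 3 ∣ Sg q 12 := Sg_dvd (q := q) (d := 3) 4
  have d4 : Sg q 4 ∣ Sg q 12 := Sg_dvd (q := q) (d := 4) 3
  have d6 : Sg q 6 ∣ Sg q 12 := Sg_dvd (q := q) (d := 6) 2
  rcases hN with rfl | rfl
  · rcases hs.dvd_mul.1 hsN with h3 | h3
    · exact h3.trans d6
    · rcases hs.dvd_mul.1 h3 with h4 | h4
      · exact h4.trans d4
      · exact h4.trans d2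
  · rcases hs.dvd_mul.1 hsN with h3 | h3
    · exact h3.trans d2
    · rcases hs.dvd_mul.1 h3 with h4 | h4
      · exact h4.trans d2
      · exact h4.trans d3

theorem row_f4 {K : Type u} [Field K] [Fintype K] (hs : IsSimpleGroup ↥(chevF4.group K)) :
    Cfsg.Agent.H505.Cop.CopRow ↥(chevF4.group K) := by
  have : Finite (GL chevF4.Idx K) := inferInstance
  obtain ⟨p, hcp⟩ := CharP.exists K
  have hp2 : Fact p.Prime := ⟨CharP.char_is_prime K p⟩
  obtain ⟨f, hp, hK⟩ := FiniteField.card K p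
  obtain ⟨f, hf0⟩ := f
  have hK : Fintype.card K = p ^ f := hK
  have hf1 : f ≠ 0 := hf0.ne'
  have h2 := two_le hp hf1
  have hfin := finite_W hpF4 CoxeterMatrix.F₄.toCoxeterSystem
  have hR := rgd (K := K) hpF4 CoxeterMatrix.F₄.toCoxeterSystem p
  have hc : ∀ i, Nat.card (XX chevF4 4 K (sr i)) = p ^ f := fun i => by
    rw [card_XX hpF4 K CoxeterMatrix.F₄.toCoxeterSystem (isRoot_sr _ _ i), Nat.card_eq_fintype_card, hK]
  have hFA : FA [(2 : Fin 4)].length (p ^ f) * 1 = Sg (p ^ f) 2 := by simp [FA, Sg, Finset.sum_range_succ]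
  have hN2 := card_step hR path2 (fun i _ => hc i) (card_nil hR)
  rw [hFA] at hN2
  have hN12 := card_orbit hR orb1 (f := fun _ => p ^ f) hc (JL' := [2]) (by decide) hN2
  rw [sum_L1] at hN12
  have hN123 := card_orbit hR orb3 (f := fun _ => p ^ f) hc (JL' := [1, 2]) (by decide) hN12
  rw [sum_L3] at hN123
  have hN012 := card_orbit hR orb0 (f := fun _ => p ^ f) hc (JL' := [1, 2]) (by decide) hN12
  rw [sum_L0] at hN012
  have hN023 := card_step hR path_F4_1_0 (fun i _ => hc i) (card_step hR path_F4_1_1 (fun i _ => hc i) (card_nil hR))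
  have hN013 := card_step hR path_F4_2_0 (fun i _ => hc i) (card_step hR path_F4_2_1 (fun i _ => hc i) (card_nil hR))
  have hF1 : FA [(0 : Fin 4)].length (p ^ f) * (FA [(2 : Fin 4), 3].length (p ^ f) * 1) =
      Sg (p ^ f) 2 * (Sg (p ^ f) 2 * Sg (p ^ f) 3) := by
    simp [FA, Sg, Finset.prod_range_succ]
  have hF2 : FA [(0 : Fin 4), 1].length (p ^ f) * (FA [(3 : Fin 4)].length (p ^ f) * 1) =
      Sg (p ^ f) 2 * (Sg (p ^ f) 2 * Sg (p ^ f) 3) := by
    simp [FA, Sg, Finset.prod_range_succ]; ring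
  rw [hF1] at hN023
  rw [hF2] at hN013
  have key : ∀ (J : Set (Fin 4)) (N : ℕ), (N = Sg (p ^ f) 6 * (Sg (p ^ f) 4 * Sg (p ^ f) 2) ∨
      N = Sg (p ^ f) 2 * (Sg (p ^ f) 2 * Sg (p ^ f) 3)) →
      Nat.card ↥(PJ CoxeterMatrix.F₄.toCoxeterSystem hpF4.isCartan (TT chevF4 K) (XX chevF4 4 K) J) =
        N * Nat.card ↥(RGD.B CoxeterMatrix.F₄.toCoxeterSystem hpF4.isCartan (TT chevF4 K) (XX chevF4 4 K)) →
      ∀ s : ℕ, s.Prime → s ∣ N →
        s ∣ (PJ CoxeterMatrix.F₄.toCoxeterSystem hpF4.isCartan (TT chevF4 K) (XX chevF4 4 K) J).index := by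
    intro J N hN hcard s hs hsN
    have h6 := index_split hpF4 K hp hf1 hK CoxeterMatrix.F₄.toCoxeterSystem (d := 1)
      (P := pr (p ^ f) [2, 6, 8, 12]) (fun h => hp.one_lt.ne' (Nat.dvd_one.1 h))
      (by rw [← hK]; exact Cfsg.Agent.S1035.result rfl (chevF4, 1) (by simp))
      ⟨f * 24, by
        rw [pow_mul]
        simp only [pr_cons, pr_nil]
        rw [one_mul, Cfsg.Agent.S1062.result hK]
        ring⟩ (not_dvd_pr hp hf1 _ (by simp)) hcard
    exact numF h2 hN h6 hs hsN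
  have hset : ∀ i : Fin 4, ({j | j ≠ i} : Set (Fin 4)) =
      {j | j ∈ (![([1, 2, 3] : List (Fin 4)), [0, 2, 3], [0, 1, 3], [0, 1, 2]] i)} := by
    intro i
    ext j
    show j ≠ i ↔ j ∈ _
    revert i j
    decide
  refine Cfsg.Agent.H505.Cop.copRow_of_rgd' hR (G1_eq_top hpF4 _) (fun s hs t ht =>
      Subtype.ext (OddHalf.Small.ChevCent.diag_comm hpF4.inList (Subgroup.mem_subgroupOf.1 hs)
        (Subgroup.mem_subgroupOf.1 ht)))
    (![Sg (p ^ f) 6 * (Sg (p ^ f) 4 * Sg (p ^ f) 2), Sg (p ^ f) 2 * (Sg (p ^ f) 2 * Sg (p ^ f) 3),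
      Sg (p ^ f) 2 * (Sg (p ^ f) 2 * Sg (p ^ f) 3), Sg (p ^ f) 6 * (Sg (p ^ f) 4 * Sg (p ^ f) 2)]) ?_ ?_
  · intro i
    rw [hset]
    fin_cases i
    · exact hN123
    · exact hN023
    · exact hN013
    · exact hN012
  · intro i s hs hsN
    rw [hset]
    fin_cases i
    · exact key _ _ (Or.inl rfl) hN123 s hs hsN
    · exact key _ _ (Or.inr rfl) hN023 s hs hsN
    · exact key _ _ (Or.inr rfl) hN013 s hs hsN
    · exact key _ _ (Or.inl rfl) hN012 s hs hsN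

/-! ### `G₂` -/

theorem hpG2 : IsType chevG2 2 CoxeterMatrix.G₂ := by simp [IsType, typeList]

theorem pathG1 : PathOK CoxeterMatrix.G₂ [1] [1] [] 0 := by constructor <;> decide +kernel
theorem pathG0 : PathOK CoxeterMatrix.G₂ [0] [0] [] 0 := by constructor <;> decide +kernel

theorem numG {q i : ℕ} (hq : 2 ≤ q) (h : i * Sg q 2 * (q - 1) ^ 2 = pr q [2, 6]) {s : ℕ} (hsN : s ∣ Sg q 2) :
    s ∣ i := by
  have h1 : i * Sg q 2 = Sg q 6 * Sg q 2 := by
    have h2 : 0 < (q - 1) ^ 2 := by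
      have : 0 < q - 1 := by omega
      positivity
    apply Nat.eq_of_mul_eq_mul_right h2
    rw [h]
    simp only [pr_cons, pr_nil, Sg_mul_sub (show 1 ≤ q by omega)]
    ring
  have h3 : i = Sg q 6 := Nat.eq_of_mul_eq_mul_right (Sg_pos (q := q) (n := 2) (by norm_num)) h1
  rw [h3]
  exact hsN.trans (Sg_dvd (q := q) (d := 2) 3)

theorem row_g2 {K : Type u} [Field K] [Fintype K] (hs : IsSimpleGroup ↥(chevG2.group K)) :
    Cfsg.Agent.H505.Cop.CopRow ↥(chevG2.group K) := by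
  have : Finite (GL chevG2.Idx K) := inferInstance
  obtain ⟨p, hcp⟩ := CharP.exists K
  have hp2 : Fact p.Prime := ⟨CharP.char_is_prime K p⟩
  obtain ⟨f, hp, hK⟩ := FiniteField.card K p
  obtain ⟨f, hf0⟩ := f
  have hK : Fintype.card K = p ^ f := hK
  have hf1 : f ≠ 0 := hf0.ne'
  have h2 := two_le hp hf1
  have hfin := finite_W hpG2 CoxeterMatrix.G₂.toCoxeterSystem
  have hR := rgd (K := K) hpG2 CoxeterMatrix.G₂.toCoxeterSystem p
  have hc : ∀ i, Nat.card (XX chevG2 2 K (sr i)) = p ^ f := fun i => by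
    rw [card_XX hpG2 K CoxeterMatrix.G₂.toCoxeterSystem (isRoot_sr _ _ i), Nat.card_eq_fintype_card, hK]
  have hFA : FA 1 (p ^ f) * 1 = Sg (p ^ f) 2 := by simp [FA, Sg, Finset.sum_range_succ]
  have hN1 := card_step hR pathG1 (fun i _ => hc i) (card_nil hR)
  have hN0 := card_step hR pathG0 (fun i _ => hc i) (card_nil hR)
  rw [show [(1 : Fin 2)].length = 1 from rfl, hFA] at hN1
  rw [show [(0 : Fin 2)].length = 1 from rfl, hFA] at hN0
  have key : ∀ (J : Set (Fin 2)),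
      Nat.card ↥(PJ CoxeterMatrix.G₂.toCoxeterSystem hpG2.isCartan (TT chevG2 K) (XX chevG2 2 K) J) =
        Sg (p ^ f) 2 * Nat.card ↥(RGD.B CoxeterMatrix.G₂.toCoxeterSystem hpG2.isCartan (TT chevG2 K) (XX chevG2 2 K)) →
      ∀ s : ℕ, s.Prime → s ∣ Sg (p ^ f) 2 →
        s ∣ (PJ CoxeterMatrix.G₂.toCoxeterSystem hpG2.isCartan (TT chevG2 K) (XX chevG2 2 K) J).index := by
    intro J hcard s hs hsN
    have h6 := index_split hpG2 K hp hf1 hK CoxeterMatrix.G₂.toCoxeterSystem (d := 1)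
      (P := pr (p ^ f) [2, 6]) (fun h => hp.one_lt.ne' (Nat.dvd_one.1 h))
      (by rw [← hK]; exact Cfsg.Agent.S1035.result rfl (chevG2, 1) (by simp))
      ⟨f * 6, by
        rw [pow_mul]
        simp only [pr_cons, pr_nil]
        rw [one_mul, Cfsg.Agent.S1059.result hK]
        ring⟩ (not_dvd_pr hp hf1 _ (by simp)) hcard
    exact numG h2 h6 hsN
  have hset : ∀ i : Fin 2, ({j | j ≠ i} : Set (Fin 2)) = {j | j ∈ (![([1] : List (Fin 2)), [0]] i)} := by
    intro i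
    ext j
    show j ≠ i ↔ j ∈ _
    revert i j
    decide
  refine Cfsg.Agent.H505.Cop.copRow_of_rgd' hR (G1_eq_top hpG2 _) (fun s hs t ht =>
      Subtype.ext (OddHalf.Small.ChevCent.diag_comm hpG2.inList (Subgroup.mem_subgroupOf.1 hs)
        (Subgroup.mem_subgroupOf.1 ht))) (fun _ => Sg (p ^ f) 2) ?_ ?_
  · intro i
    rw [hset]
    fin_cases i
    · exact hN1
    · exact hN0
  · intro i s hs hsN
    rw [hset]
    fin_cases i
    · exact key _ hN1 s hs hsN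
    · exact key _ hN0 s hs hsN

end Cfsg.Agent.H976.RowFG

namespace Cfsg.Agent.H976.Cop

/-- **Row `F₄(q)`.** -/
theorem row_F4 {S : Type*} [Group S] [Finite S] [hS : IsSimpleGroup S] (h : Cfsg.Lie.IsoF4 S) :
    Cfsg.Agent.H505.Cop.CopRow S := by
  obtain ⟨K, i1, i2, ⟨e⟩⟩ := h
  have hs : IsSimpleGroup ↥(Cfsg.Lie.chevF4.group K) := e.symm.isSimpleGroup
  exact copRow_congr e.symm (RowFG.row_f4 hs)

/-- **Row `G₂(q)`.** -/
theorem row_G2 {S : Type*} [Group S] [Finite S] [hS : IsSimpleGroup S] (h : Cfsg.Lie.IsoChevG2 S) :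
    Cfsg.Agent.H505.Cop.CopRow S := by
  obtain ⟨K, i1, i2, -, ⟨e⟩⟩ := h
  have hs : IsSimpleGroup ↥(Cfsg.Lie.chevG2.group K) := e.symm.isSimpleGroup
  exact copRow_congr e.symm (RowFG.row_g2 hs)

end Cfsg.Agent.H976.Cop
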