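import Cfsg.Agent.H505.Cop.Rgd
import Cfsg.Agent.H248.TitsRGD
import Cfsg.Agent.H35.ExcIdxTw
import Cfsg.Agent.H934.RowOrb
import Cfsg.Agent.H436.Ppd

/-!
# Parabolic subgroups of `²E₆(q)`: the primes of `Φ₃ Φ₆ Φ₁₂ Φ₁₈` divide the index of every proper subgroup containing
a Sylow subgroup for the characteristic (a piece of S4175, for helper563)
-/

set_option autoImplicit false

namespace Cfsg.Agent.H976.TwE6Par

open CoxeterSystem Cfsg.Agent.ChevalleyStructure.CoxeterGeom Cfsg.Agent.Tits.Roots Cfsg.Agent.Tits.Core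
  Cfsg.Agent.Tits.Exchange Cfsg.Agent.Nodes.Reps Cfsg.Agent.Nodes.BNOf Cfsg.Agent.Nodes.StabComb
  Cfsg.Agent.Nodes.Bruhat Cfsg.Agent.Nodes.OppDec Cfsg.Agent.Nodes.LeviDec Cfsg.Agent.Nodes.NormalForm
open Cfsg.Agent.H934.RowOrb Cfsg.Agent.H436
open Cfsg.Lie Cfsg.Agent.ChevalleyStructure Cfsg.Agent.H35.ExcIdx Cfsg.Agent.H35.PoinNum
open Cfsg.Agent.ChevalleyStructure.TwE6Basic (posE negE sg fix n exists_frob twisted_le_fix)

universe u

section par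

variable {I W Y : Type*} [Fintype I] [DecidableEq I] [Group W] [Group Y] {M : CoxeterMatrix I}
  {cs : CoxeterSystem M W} {A : I → I → ℤ} {h : IsCartan M A} {p : ℕ} {T : Subgroup Y} {n : I → Y}
  {X : (I → ℤ) → Subgroup Y}

/-- a proper subgroup of index prime to `p` lies in a conjugate of a maximal parabolic subgroup -/
theorem exists_par [Finite W] [Finite Y] [hp : Fact p.Prime]
    (R : RGD cs h p T n X) (hG1 : RGD.Sup X {x | IsRoot cs h x} = ⊤) {H : Subgroup Y} (hH : ¬ p ∣ H.index)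
    (hH1 : H ≠ ⊤) : ∃ (i : I) (g : Y), H.map (MulAut.conj g).toMonoidHom ≤ PJ cs h T X {j | j ≠ i} := by
  have hGG : GG cs h T X = ⊤ := by
    rw [eq_top_iff, ← hG1]
    exact le_sup_right
  have hU : IsPGroup p (RGD.Sup X (RGD.Pos cs h)) :=
    R.isPGroup_of_pos (S := RGD.Pos cs h) fun _ hx => hx
  obtain ⟨g, hg⟩ := Cfsg.Agent.H505.Cop.exists_conj_le_of_index hU hH
  set P := H.map (MulAut.conj g).toMonoidHom with hP
  have h1 := Cfsg.Agent.H248.TitsRGD.le_PJ R hg (by rw [hGG]; exact le_top)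
  have h2 : Cfsg.Agent.H248.TitsRGD.JU T n P ≠ Set.univ := by
    intro h3
    have h4 := Cfsg.Agent.H248.TitsRGD.Sup_le_of_univ R hg h3
    rw [hG1, top_le_iff] at h4
    apply hH1
    rw [← Subgroup.index_eq_one] at h4 ⊢
    have hidx : (H.map (MulAut.conj g).toMonoidHom).index = H.index := Subgroup.index_map_equiv H (MulAut.conj g)
    rwa [hP, hidx] at h4
  obtain ⟨i, hi⟩ := (Set.ne_univ_iff_exists_notMem _).1 h2
  refine ⟨i, g, h1.trans (Cfsg.Agent.H505.Cop.PJ_mono fun j hj => ?_)⟩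
  rintro rfl
  exact hi hj

end par

/-- coset representatives, `{1, 2}` over `{2}` -/
def L1 : List (List (Fin 4)) := [[], [1], [2, 1], [1, 2, 1]]
/-- coset representatives, `{1, 2, 3}` over `{1, 2}` -/
def L3 : List (List (Fin 4)) := [[], [3], [2, 3], [1, 2, 3], [2, 1, 2, 3], [3, 2, 1, 2, 3]]
/-- coset representatives, `{0, 1, 2}` over `{1, 2}` -/
def L0 : List (List (Fin 4)) := [[], [0], [1, 0], [2, 1, 0], [1, 2, 1, 0], [0, 1, 2, 1, 0]]

theorem orb1 : OrbOK Nodes.RGDTwE6.A [1, 2] 1 L1 := by constructor <;> decide +kernel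
theorem orb3 : OrbOK Nodes.RGDTwE6.A [1, 2, 3] 3 L3 := by constructor <;> decide +kernel
theorem orb0 : OrbOK Nodes.RGDTwE6.A [0, 1, 2] 0 L0 := by constructor <;> decide +kernel
theorem path2 : PathOK CoxeterMatrix.F₄ [2] [2] [] 0 := by constructor <;> decide +kernel

theorem f0 (q : ℕ) : fE q 0 = q := rfl
theorem f1 (q : ℕ) : fE q 1 = q := rfl
theorem f2 (q : ℕ) : fE q 2 = q ^ 2 := rfl
theorem f3 (q : ℕ) : fE q 3 = q ^ 2 := rfl

theorem sum_L1 (q : ℕ) : (L1.map fun ω => (ω.map (fE q)).prod).sum = (1 + q) * (1 + q ^ 3) := by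
  simp only [L1, List.map_cons, List.map_nil, List.prod_cons, List.prod_nil, List.sum_cons, List.sum_nil, f1, f2]
  ring

theorem sum_L3 (q : ℕ) : (L3.map fun ω => (ω.map (fE q)).prod).sum = (1 + q ^ 2 + q ^ 4) * (1 + q ^ 5) := by
  simp only [L3, List.map_cons, List.map_nil, List.prod_cons, List.prod_nil, List.sum_cons, List.sum_nil, f1, f2, f3]
  ring

theorem sum_L0 (q : ℕ) : (L0.map fun ω => (ω.map (fE q)).prod).sum = (1 + q + q ^ 2) * (1 + q ^ 4) := by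
  simp only [L0, List.map_cons, List.map_nil, List.prod_cons, List.prod_nil, List.sum_cons, List.sum_nil, f0, f1, f2]
  ring

/-- `|P_i / B|` -/
def NN (q : ℕ) : Fin 4 → ℕ := ![(1 + q ^ 2 + q ^ 4) * (1 + q ^ 5) * ((1 + q) * (1 + q ^ 3) * (1 + q ^ 2)),
  (1 + q) * ((1 + q ^ 2) * (1 + q ^ 2 + q ^ 4)), (1 + q) * (1 + q + q ^ 2) * (1 + q ^ 2),
  (1 + q + q ^ 2) * (1 + q ^ 4) * ((1 + q) * (1 + q ^ 3) * (1 + q ^ 2))]

/-- the numbers -/
theorem num {q j : ℕ} (hq : 2 ≤ q) (i : Fin 4) (h : j * NN q i * ((q - 1) ^ 4 * (q + 1) ^ 2) = PT q) :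
    (q ^ 3 * (q ^ 3 - 1) + 1) * (1 + q ^ 2 + q ^ 4 + q ^ 6 + q ^ 8 + q ^ 10) ∣ j := by
  have hsub : ∀ a b : ℕ, a = b + 1 → a - 1 = b := by omega
  obtain ⟨x, hx⟩ : ∃ x, q = x + 1 := ⟨q - 1, by omega⟩
  have hx0 : 0 < x := by omega
  have e0 : q - 1 = x := by omega
  have e2 : q ^ 2 - 1 = x * (q + 1) := hsub _ _ (by rw [hx]; ring)
  have e6 : q ^ 6 - 1 = x * ((1 + q + q ^ 2) * (1 + q ^ 3)) := hsub _ _ (by rw [hx]; ring)
  have e8 : q ^ 8 - 1 = x * ((q + 1) * (1 + q ^ 2) * (1 + q ^ 4)) := hsub _ _ (by rw [hx]; ring)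
  have e12 : q ^ 12 - 1 = x * ((q + 1) * (1 + q ^ 2 + q ^ 4 + q ^ 6 + q ^ 8 + q ^ 10)) :=
    hsub _ _ (by rw [hx]; ring)
  have e9 : q ^ 9 + 1 = (q ^ 3 + 1) * (q ^ 3 * (q ^ 3 - 1) + 1) := by
    have h1 : q ^ 9 = (q ^ 3) ^ 3 := by ring
    have h2 : 1 ≤ q ^ 3 := Nat.one_le_pow _ _ (by omega)
    rw [h1]
    obtain ⟨w, hw⟩ : ∃ w, q ^ 3 = w + 1 := ⟨q ^ 3 - 1, by omega⟩
    rw [hw, Nat.add_sub_cancel]
    ring
  obtain ⟨s, hs⟩ : ∃ s, s = q ^ 3 * (q ^ 3 - 1) + 1 := ⟨_, rfl⟩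
  obtain ⟨t, ht⟩ : ∃ t, t = 1 + q ^ 2 + q ^ 4 + q ^ 6 + q ^ 8 + q ^ 10 := ⟨_, rfl⟩
  rw [← hs, ← ht]
  rw [← hs] at e9
  rw [← ht] at e12
  unfold PT at h
  rw [e0, e2, e6, e8, e12, e9] at h
  have hpos : ∀ i, 0 < NN q i := by
    intro i
    fin_cases i
    · show 0 < (1 + q ^ 2 + q ^ 4) * (1 + q ^ 5) * ((1 + q) * (1 + q ^ 3) * (1 + q ^ 2))
      positivity
    · show 0 < (1 + q) * ((1 + q ^ 2) * (1 + q ^ 2 + q ^ 4))
      positivity
    · show 0 < (1 + q) * (1 + q + q ^ 2) * (1 + q ^ 2)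
      positivity
    · show 0 < (1 + q + q ^ 2) * (1 + q ^ 4) * ((1 + q) * (1 + q ^ 3) * (1 + q ^ 2))
      positivity
  have key : ∀ m : ℕ, j * NN q i * (x ^ 4 * (q + 1) ^ 2) = s * t * m * (NN q i * (x ^ 4 * (q + 1) ^ 2)) →
      s * t ∣ j := by
    intro m h3
    refine ⟨m, ?_⟩
    have h1 := hpos i
    apply Nat.eq_of_mul_eq_mul_right (show 0 < NN q i * (x ^ 4 * (q + 1) ^ 2) by positivity)
    rw [← h3, mul_assoc]
  fin_cases i
  · refine key ((1 + q ^ 4) * (q + 1)) ?_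
    rw [h]
    show _ = _ * ((1 + q ^ 2 + q ^ 4) * (1 + q ^ 5) * ((1 + q) * (1 + q ^ 3) * (1 + q ^ 2)) * (x ^ 4 * (q + 1) ^ 2))
    ring
  · refine key ((1 + q ^ 4) * (q ^ 5 + 1) * (q ^ 3 + 1) * (q + 1)) ?_
    rw [h]
    show _ = _ * ((1 + q) * ((1 + q ^ 2) * (1 + q ^ 2 + q ^ 4)) * (x ^ 4 * (q + 1) ^ 2))
    ring
  · refine key ((q ^ 3 + 1) * (q ^ 4 + 1) * (q ^ 5 + 1) * (q ^ 3 + 1)) ?_
    rw [h]
    show _ = _ * ((1 + q) * (1 + q + q ^ 2) * (1 + q ^ 2) * (x ^ 4 * (q + 1) ^ 2))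
    ring
  · refine key ((q ^ 5 + 1) * (q ^ 3 + 1)) ?_
    rw [h]
    show _ = _ * ((1 + q + q ^ 2) * (1 + q ^ 4) * ((1 + q) * (1 + q ^ 3) * (1 + q ^ 2)) * (x ^ 4 * (q + 1) ^ 2))
    ring

theorem prim_dvd {q e r : ℕ} (he : e = 3 ∨ e = 6 ∨ e = 12 ∨ e = 18) (h : Prim q e r) (hq : 2 ≤ q) :
    r ∣ (q ^ 3 * (q ^ 3 - 1) + 1) * (1 + q ^ 2 + q ^ 4 + q ^ 6 + q ^ 8 + q ^ 10) := by
  by_cases h18 : e = 18
  · subst h18
    refine Dvd.dvd.mul_right ?_ _
    have h1 : r ∣ q ^ 9 + 1 := h.dvd_add (by norm_num) (by norm_num)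
    have h2 : ¬ r ∣ q ^ 3 + 1 := h.not_dvd_add (by norm_num)
    have e9 : q ^ 9 + 1 = (q ^ 3 + 1) * (q ^ 3 * (q ^ 3 - 1) + 1) := by
      have h1 : q ^ 9 = (q ^ 3) ^ 3 := by ring
      have h2 : 1 ≤ q ^ 3 := Nat.one_le_pow _ _ (by omega)
      rw [h1]
      obtain ⟨w, hw⟩ : ∃ w, q ^ 3 = w + 1 := ⟨q ^ 3 - 1, by omega⟩
      rw [hw, Nat.add_sub_cancel]
      ring
    rw [e9] at h1
    exact (h.prime.dvd_mul.1 h1).resolve_left h2
  · refine Dvd.dvd.mul_left ?_ _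
    have h1 : r ∣ q ^ 12 - 1 := h.dvd (by rcases he with rfl | rfl | rfl | rfl <;> first | exact absurd rfl h18 | norm_num)
    have h2 : ¬ r ∣ q ^ 2 - 1 := h.not_dvd_sub (by rcases he with rfl | rfl | rfl | rfl <;> norm_num)
    have e12 : q ^ 12 - 1 = (q ^ 2 - 1) * (1 + q ^ 2 + q ^ 4 + q ^ 6 + q ^ 8 + q ^ 10) := by
      apply Nat.sub_eq_of_eq_add
      obtain ⟨w, hw⟩ : ∃ w, q ^ 2 = w + 1 := ⟨q ^ 2 - 1, by have := Nat.one_le_pow 2 q (by omega); omega⟩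
      have a4 : q ^ 4 = (w + 1) ^ 2 := by rw [← hw]; ring
      have a6 : q ^ 6 = (w + 1) ^ 3 := by rw [← hw]; ring
      have a8 : q ^ 8 = (w + 1) ^ 4 := by rw [← hw]; ring
      have a10 : q ^ 10 = (w + 1) ^ 5 := by rw [← hw]; ring
      have a12 : q ^ 12 = (w + 1) ^ 6 := by rw [← hw]; ring
      rw [a4, a6, a8, a10, a12, hw, Nat.add_sub_cancel]
      ring
    rw [e12] at h1
    exact (h.prime.dvd_mul.1 h1).resolve_left h2

/-- **the indices of the maximal parabolic subgroups** -/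
theorem index_par {K : Type u} [Field K] [Fintype K] {q : ℕ} (hq : IsPrimePow q) (hK : Fintype.card K = q ^ 2)
    (A B : Subgroup ↥(twistedE6 K q)) (hcop : A.index.Coprime B.index) : A = ⊤ ∨ B = ⊤ ∨
      (∀ e r, (e = 3 ∨ e = 6 ∨ e = 12 ∨ e = 18) → Prim q e r → ¬ r ∣ A.index) ∨
      (∀ e r, (e = 3 ∨ e = 6 ∨ e = 12 ∨ e = 18) → Prim q e r → ¬ r ∣ B.index) := by
  obtain ⟨φ, hφ, hqq⟩ := exists_frob hq hK
  have : Finite (GL chevE6.Idx K) := inferInstance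
  obtain ⟨p, hcp⟩ := CharP.exists K
  have hp' : Fact p.Prime := ⟨CharP.char_is_prime K p⟩
  have h2 : 2 ≤ q := hq.two_le
  obtain ⟨r, f, hr, hf, hrf⟩ := hq
  have hr' : r.Prime := hr.nat_prime
  have hpr : p = r := by
    obtain ⟨n, hpp, hn⟩ := FiniteField.card K p
    have h3 : p ∣ r := by
      have h4 : p ∣ Fintype.card K := by rw [hn]; exact dvd_pow_self p n.pos.ne'
      rw [hK, ← hrf, ← pow_mul] at h4
      exact hpp.dvd_of_dvd_pow h4
    exact (Nat.prime_dvd_prime_iff_eq hpp hr').1 h3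
  subst hpr
  have hpp : IsPrimePow q := ⟨p, f, hr, hf, hrf⟩
  have hq' : q = p ^ f := hrf.symm
  have hfin : Finite CoxeterMatrix.F₄.Group := Nodes.RGDFold.finite_W (hp := Nodes.RGDTwE6.hp)
    CoxeterMatrix.F₄.toCoxeterSystem Nodes.RGDTwE6.isCartan Nodes.RGDTwE6.foldData
  have hR := Nodes.RGDTwE6.rgd CoxeterMatrix.F₄.toCoxeterSystem hφ hqq p
  have hG1 : Nodes.RGDLib.G1 CoxeterMatrix.F₄.toCoxeterSystem Nodes.RGDTwE6.isCartan (Nodes.RGDTwE6.X φ q) = ⊤ :=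
    Nodes.RGDTwE6.G1_eq_top _ hφ hqq
  have hGG : GG CoxeterMatrix.F₄.toCoxeterSystem Nodes.RGDTwE6.isCartan (Nodes.RGDTwE6.T K q)
      (Nodes.RGDTwE6.X φ q) = ⊤ := by
    rw [eq_top_iff, ← hG1]
    exact le_sup_right
  have hc := card_X_tw (φ := φ) hφ hqq (by omega) hK
  have hP : ¬ p ∣ PT q := by
    intro h3
    have h4 : p ∣ pr q [2, 6, 8, 10, 12, 18] := by
      rw [← PT_mul (by omega)]; exact Dvd.dvd.mul_right h3 _
    rw [hq'] at h4
    exact not_dvd_pr hr' hf.ne' _ (by simp) h4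
  have hT : Nat.gcd 3 (q + 1) * Nat.card ↥(Nodes.RGDTwE6.T K q) = (q - 1) ^ 4 * (q + 1) ^ 2 := by
    rw [← Cfsg.Agent.S1102.result hpp hK]
    congr 1
    exact Nat.card_congr (Subgroup.subgroupOfEquivOfLe inf_le_right).toEquiv
  have hd : ¬ p ∣ Nat.gcd 3 (q + 1) := by
    intro h3
    have h4 : p ∣ q + 1 := h3.trans (Nat.gcd_dvd_right _ _)
    have h5 : p ∣ q := by rw [hq']; exact dvd_pow_self p hf.ne'
    exact hr'.one_lt.ne' (Nat.dvd_one.1 ((Nat.dvd_add_right h5).1 h4))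
  have hS : Nat.gcd 3 (q + 1) * Nat.card ↥(twistedE6 K q) = p ^ (f * 36) * PT q := by
    rw [Cfsg.Agent.S1066.result hpp hK, pow_mul, ← hq']
    unfold PT
    ring
  have hFA : FA [(2 : Fin 4)].length (q ^ 2) * 1 = 1 + q ^ 2 := by simp [FA, Finset.sum_range_succ]
  have hN2 := card_step hR path2 (y := q ^ 2) (fun i hi => by
    rw [hc]; revert i; simp [fE]) (card_nil hR)
  rw [hFA] at hN2
  have hN12 := card_orbit hR orb1 hc (JL' := [2]) (by decide) hN2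
  rw [sum_L1] at hN12
  have hN123 := card_orbit hR orb3 hc (JL' := [1, 2]) (by decide) hN12
  rw [sum_L3] at hN123
  have hN012 := card_orbit hR orb0 hc (JL' := [1, 2]) (by decide) hN12
  rw [sum_L0] at hN012
  have hN023 := card_step hR path_T_2 (y := q) (fun i hi => by rw [hc]; revert i; simp [fE])
    (card_step hR path_T_3 (y := q ^ 2) (fun i hi => by rw [hc]; revert i; simp [fE]) (card_nil hR))
  have hN013 := card_step hR path_T_0 (y := q) (fun i hi => by rw [hc]; revert i; simp [fE])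
    (card_step hR path_T_1 (y := q ^ 2) (fun i hi => by rw [hc]; revert i; simp [fE]) (card_nil hR))
  have hF1 : FA [(0 : Fin 4)].length q * (FA [(2 : Fin 4), 3].length (q ^ 2) * 1) =
      (1 + q) * ((1 + q ^ 2) * (1 + q ^ 2 + q ^ 4)) := by
    simp only [FA, List.length_cons, List.length_nil, Finset.prod_range_succ, Finset.prod_range_zero,
      Finset.sum_range_succ, Finset.sum_range_zero]
    ring
  have hF2 : FA [(0 : Fin 4), 1].length q * (FA [(3 : Fin 4)].length (q ^ 2) * 1) =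
      (1 + q) * (1 + q + q ^ 2) * (1 + q ^ 2) := by
    simp only [FA, List.length_cons, List.length_nil, Finset.prod_range_succ, Finset.prod_range_zero,
      Finset.sum_range_succ, Finset.sum_range_zero]
    ring
  rw [hF1] at hN023
  rw [hF2] at hN013
  have hset : ∀ i : Fin 4, ({j | j ≠ i} : Set (Fin 4)) =
      {j | j ∈ (![([1, 2, 3] : List (Fin 4)), [0, 2, 3], [0, 1, 3], [0, 1, 2]] i)} := by
    intro i
    ext j
    show j ≠ i ↔ j ∈ _
    revert i j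
    decide
  have hNN : ∀ i : Fin 4, Nat.card ↥(PJ CoxeterMatrix.F₄.toCoxeterSystem Nodes.RGDTwE6.isCartan (Nodes.RGDTwE6.T K q)
      (Nodes.RGDTwE6.X φ q) {j | j ≠ i}) = NN q i * Nat.card ↥(RGD.B CoxeterMatrix.F₄.toCoxeterSystem
      Nodes.RGDTwE6.isCartan (Nodes.RGDTwE6.T K q) (Nodes.RGDTwE6.X φ q)) := by
    intro i
    rw [hset]
    fin_cases i
    · exact hN123
    · exact hN023
    · exact hN013
    · exact hN012
  have key : ∀ A B : Subgroup ↥(twistedE6 K q), A.index.Coprime B.index → ¬ p ∣ A.index → A = ⊤ ∨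
      (∀ e r, (e = 3 ∨ e = 6 ∨ e = 12 ∨ e = 18) → Prim q e r → ¬ r ∣ B.index) := by
    intro A B hcop hA
    by_cases hA1 : A = ⊤
    · exact Or.inl hA1
    right
    obtain ⟨i, g, hg⟩ := exists_par hR hG1 hA hA1
    intro e r he hr hrB
    have h6 := num h2 i (index_eq hR hGG (hNN i) hd hT hS hP)
    have h7 := ((prim_dvd he hr h2).trans h6).trans (Subgroup.index_dvd_of_le hg)
    have hidx : (A.map (MulAut.conj g).toMonoidHom).index = A.index := Subgroup.index_map_equiv A (MulAut.conj g)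
    rw [hidx] at h7
    exact hr.prime.one_lt.ne' (Nat.eq_one_of_dvd_coprimes hcop h7 hrB)
  by_cases hA : p ∣ A.index
  · have hB : ¬ p ∣ B.index := fun hB => hr'.one_lt.ne' (Nat.eq_one_of_dvd_coprimes hcop hA hB)
    rcases key B A hcop.symm hB with h | h
    · exact Or.inr (Or.inl h)
    · exact Or.inr (Or.inr (Or.inl h))
  · rcases key A B hcop hA with h | h
    · exact Or.inl h
    · exact Or.inr (Or.inr (Or.inr h))

end Cfsg.Agent.H976.TwE6Par
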