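import Cfsg.Agent.H976.Cop.Main
import Cfsg.Agent.H505.Cop.Red

/-!
# Rows: bridge to `H505.Cop.CopRow`, transport along isomorphisms, centre quotients

`Amb G`: every element of `G` is mapped to its inverse by an automorphism of `G`.
`RpRow G`: the weaker form used by `copRow_of_rp`.
-/

set_option autoImplicit false

namespace Cfsg.Agent.H976.Cop

/-- every element is mapped to its inverse by some automorphism -/
def Amb (G : Type*) [Group G] : Prop := ∀ x : G, ∃ α : MulAut G, α x = x⁻¹

/-- for every prime `p`, a `p`-power of the inverse is an automorphic image of a `p`-power -/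
def RpRow (G : Type*) [Group G] : Prop :=
  ∀ p : ℕ, p.Prime → ∀ h : G, ∃ (α : MulAut G) (i j : ℕ), h⁻¹ ^ p ^ i = α (h ^ p ^ j)

theorem Amb.rp {G : Type*} [Group G] (h : Amb G) : RpRow G := fun p _ x => by
  obtain ⟨α, hα⟩ := h x
  exact ⟨α, 0, 0, by rw [pow_zero, pow_one, pow_one, hα]⟩

theorem Amb.congr {G H : Type*} [Group G] [Group H] (e : G ≃* H) (h : Amb G) : Amb H := fun x => by
  obtain ⟨α, hα⟩ := h (e.symm x)
  refine ⟨(e.symm.trans α).trans e, ?_⟩
  show e (α (e.symm x)) = x⁻¹
  rw [hα, ← map_inv, e.apply_symm_apply]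

theorem RpRow.congr {G H : Type*} [Group G] [Group H] (e : G ≃* H) (h : RpRow G) : RpRow H := fun p hp x => by
  obtain ⟨α, i, j, hα⟩ := h p hp (e.symm x)
  refine ⟨(e.symm.trans α).trans e, i, j, ?_⟩
  show x⁻¹ ^ p ^ i = e (α (e.symm (x ^ p ^ j)))
  rw [map_pow e.symm, ← hα, map_pow, map_inv, e.apply_symm_apply]

/-- an automorphism descends to the quotient by a characteristic subgroup -/
noncomputable def descend {G : Type*} [Group G] (N : Subgroup G) [N.Normal] [hN : N.Characteristic] (α : MulAut G) :
    MulAut (G ⧸ N) :=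
  QuotientGroup.congr N N α (by
    exact (Subgroup.characteristic_iff_map_eq.1 hN) α)

theorem descend_mk {G : Type*} [Group G] (N : Subgroup G) [N.Normal] [N.Characteristic] (α : MulAut G) (x : G) :
    descend N α (x : G ⧸ N) = ((α x : G) : G ⧸ N) := rfl

theorem Amb.quot {G : Type*} [Group G] (h : Amb G) (N : Subgroup G) [N.Normal] [N.Characteristic] : Amb (G ⧸ N) := by
  intro x
  induction x using QuotientGroup.induction_on with
  | H x =>
    obtain ⟨α, hα⟩ := h x
    exact ⟨descend N α, by rw [descend_mk, hα]; rfl⟩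

theorem RpRow.quot {G : Type*} [Group G] (h : RpRow G) (N : Subgroup G) [N.Normal] [N.Characteristic] :
    RpRow (G ⧸ N) := by
  intro p hp x
  induction x using QuotientGroup.induction_on with
  | H x =>
    obtain ⟨α, i, j, hα⟩ := h p hp x
    refine ⟨descend N α, i, j, ?_⟩
    have h1 : (x : G ⧸ N) ^ p ^ j = ((x ^ p ^ j : G) : G ⧸ N) := rfl
    rw [h1, descend_mk, ← hα]
    rfl

/-- my row predicate implies that of `H505` -/
theorem toH505 {H : Type*} [Group H] [Finite H] (h : CopRow H) : Cfsg.Agent.H505.Cop.CopRow H := by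
  intro p hp V _ _ _ ρ hirr hnt A B hAB a b ha hb
  have hfd : FiniteDimensional (ZMod p) V := inferInstance
  let e : V ≃ₗ[ZMod p] (Fin (Module.finrank (ZMod p) V) → ZMod p) :=
    LinearEquiv.ofFinrankEq _ _ (by rw [Module.finrank_fin_fun])
  let σ : Representation (ZMod p) H (Fin (Module.finrank (ZMod p) V) → ZMod p) :=
    { toFun := fun g => e.toLinearMap ∘ₗ (ρ g) ∘ₗ e.symm.toLinearMap
      map_one' := by
        apply LinearMap.ext
        intro v
        simp
      map_mul' := by
        intro x y
        apply LinearMap.ext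
        intro v
        simp [Module.End.mul_apply] }
  have hσ : ∀ g v, σ g (e v) = e (ρ g v) := by
    intro g v
    show e (ρ g (e.symm (e v))) = _
    rw [e.symm_apply_apply]
  have h1 : Irr σ := by
    intro W hW
    rcases hirr (W.comap e.toLinearMap) (by
      intro g w hw
      rw [Submodule.mem_comap] at hw ⊢
      have := hW g _ hw
      rw [LinearEquiv.coe_coe, hσ] at this
      exact this) with h2 | h2
    · left
      rw [eq_bot_iff]
      intro x hx
      have h3 : e.symm x ∈ W.comap e.toLinearMap := by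
        rw [Submodule.mem_comap, LinearEquiv.coe_coe, e.apply_symm_apply]; exact hx
      rw [h2, Submodule.mem_bot] at h3
      rw [Submodule.mem_bot]
      rw [← e.apply_symm_apply x, h3, map_zero]
    · right
      rw [eq_top_iff]
      intro x _
      have h3 : e.symm x ∈ W.comap e.toLinearMap := by rw [h2]; trivial
      rw [Submodule.mem_comap, LinearEquiv.coe_coe, e.apply_symm_apply] at h3
      exact h3
  have h2 : NonTriv σ := by
    obtain ⟨g, v, hv⟩ := hnt
    refine ⟨g, e v, ?_⟩
    rw [hσ]
    exact fun h => hv (e.injective h)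
  rcases h p _ σ h1 h2 A B hAB (e a) (e b) (fun x hx => by rw [hσ, ha x hx]) (fun x hx => by rw [hσ, hb x hx]) with h3 | h3
  · left
    exact (map_eq_zero_iff e e.injective).1 h3
  · right
    exact (map_eq_zero_iff e e.injective).1 h3

theorem RpRow.cop {H : Type*} [Group H] [Finite H] (h : RpRow H) : Cfsg.Agent.H505.Cop.CopRow H :=
  toH505 (copRow_of_rp h)

theorem Amb.cop {H : Type*} [Group H] [Finite H] (h : Amb H) : Cfsg.Agent.H505.Cop.CopRow H := h.rp.cop

end Cfsg.Agent.H976.Cop
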