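import Mathlib

/-!
# Vectors with coprime orbit lengths in an irreducible module (S4175): basics

* `exists_mul` : subgroups of coprime indices factorize the group;
* `pairing` : `H = A B`, `V` irreducible and not trivial, `f ∈ V*` fixed by `A`, `b ∈ V` fixed by `B`: `f = 0` or `b = 0`;
* `NoCop ρ` : no two nonzero vectors of `ρ` are fixed by subgroups of coprime indices;
* `CopRow H` : `NoCop ρ` for all irreducible nontrivial representations of `H` over prime fields.
-/

set_option autoImplicit false

namespace Cfsg.Agent.H976.Cop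

universe u v w

/-- subgroups of coprime indices factorize the group -/
theorem exists_mul {G : Type*} [Group G] [Finite G] {A B : Subgroup G} (h : A.index.Coprime B.index) (g : G) :
    ∃ a ∈ A, ∃ b ∈ B, g = a * b := by
  let F : A ⧸ B.subgroupOf A → G ⧸ B := Quotient.map' (fun s => (s : G)) (by
    intro a b hab
    rw [QuotientGroup.leftRel_apply] at hab ⊢
    exact hab)
  have hinj : Function.Injective F := by
    intro a b
    induction a using QuotientGroup.induction_on with
    | H a =>
      induction b using QuotientGroup.induction_on with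
      | H b =>
        intro hab
        have h1 : (((a : G)) : G ⧸ B) = ((b : G) : G ⧸ B) := hab
        rw [QuotientGroup.eq] at h1
        exact QuotientGroup.eq.2 h1
  have hcard : Nat.card (G ⧸ B) ≤ Nat.card (A ⧸ B.subgroupOf A) := by
    have h1 : (A ⊓ B).index = B.relIndex A * A.index := by
      rw [← Subgroup.relIndex_mul_index (inf_le_left : A ⊓ B ≤ A), Subgroup.inf_relIndex_left]
    have h2 : (A ⊓ B).index = A.relIndex B * B.index := by
      rw [← Subgroup.relIndex_mul_index (inf_le_right : A ⊓ B ≤ B), Subgroup.inf_relIndex_right]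
    have h3 : B.index ∣ B.relIndex A := by
      have h4 : B.index ∣ B.relIndex A * A.index := by rw [← h1, h2]; exact Dvd.intro_left _ rfl
      exact (Nat.Coprime.dvd_of_dvd_mul_right h.symm h4)
    exact Nat.le_of_dvd (Nat.pos_of_ne_zero (Subgroup.index_ne_zero_of_finite)) h3
  have hsurj : Function.Surjective F :=
    ((Nat.bijective_iff_injective_and_card F).2 ⟨hinj, le_antisymm (Nat.card_le_card_of_injective F hinj) hcard⟩).2
  obtain ⟨a, ha⟩ := hsurj (g : G ⧸ B)
  induction a using QuotientGroup.induction_on with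
  | H a =>
    have h1 : (((a : G)) : G ⧸ B) = ((g : G) : G ⧸ B) := ha
    rw [QuotientGroup.eq] at h1
    exact ⟨a, a.2, (a : G)⁻¹ * g, h1, by group⟩

section Basic

variable {k : Type u} [Field k] {V : Type v} [AddCommGroup V] [Module k V] {H : Type w} [Group H]

/-- irreducible (possibly zero) -/
def Irr (ρ : Representation k H V) : Prop :=
  ∀ W : Submodule k V, (∀ h : H, ∀ w ∈ W, ρ h w ∈ W) → W = ⊥ ∨ W = ⊤

/-- not a trivial action -/
def NonTriv (ρ : Representation k H V) : Prop := ∃ (h : H) (v : V), ρ h v ≠ v

/-- `v` is fixed by the subgroup `A` -/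
def Fixed (ρ : Representation k H V) (A : Subgroup H) (v : V) : Prop := ∀ x ∈ A, ρ x v = v

/-- no two nonzero vectors are fixed by subgroups of coprime indices -/
def NoCop (ρ : Representation k H V) : Prop :=
  ∀ A B : Subgroup H, A.index.Coprime B.index → ∀ a b : V, Fixed ρ A a → Fixed ρ B b → a = 0 ∨ b = 0

theorem mul_apply (ρ : Representation k H V) (g h : H) (v : V) : ρ (g * h) v = ρ g (ρ h v) := by
  rw [map_mul]; rfl

theorem inv_apply_apply (ρ : Representation k H V) (g : H) (v : V) : ρ g⁻¹ (ρ g v) = v := by
  rw [← mul_apply, inv_mul_cancel, map_one]; rfl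

theorem apply_inv_apply (ρ : Representation k H V) (g : H) (v : V) : ρ g (ρ g⁻¹ v) = v := by
  rw [← mul_apply, mul_inv_cancel, map_one]; rfl

/-- the span of an orbit -/
theorem span_orbit {ρ : Representation k H V} (hirr : Irr ρ) {v : V} (hv : v ≠ 0) :
    Submodule.span k (Set.range fun h : H => ρ h v) = ⊤ := by
  refine (hirr _ ?_).resolve_left ?_
  · intro h w hw
    induction hw using Submodule.span_induction with
    | mem x hx =>
      obtain ⟨g, rfl⟩ := hx
      exact Submodule.subset_span ⟨h * g, mul_apply ρ h g v⟩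
    | zero => rw [map_zero]; exact Submodule.zero_mem _
    | add x y _ _ hx hy => rw [map_add]; exact Submodule.add_mem _ hx hy
    | smul c x _ hx => rw [map_smul]; exact Submodule.smul_mem _ _ hx
  · intro h
    apply hv
    have h1 : v ∈ Submodule.span k (Set.range fun h : H => ρ h v) :=
      Submodule.subset_span ⟨1, by simp⟩
    rwa [h, Submodule.mem_bot] at h1

/-- a nonzero vector is moved -/
theorem exists_moved {ρ : Representation k H V} (hirr : Irr ρ) (hnt : NonTriv ρ) {v : V} (hv : v ≠ 0) :
    ∃ h, ρ h v ≠ v := by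
  by_contra hcon
  push Not at hcon
  obtain ⟨h, w, hw⟩ := hnt
  have h1 := hirr (Submodule.span k {v}) (by
    intro g x hx
    obtain ⟨c, rfl⟩ := Submodule.mem_span_singleton.1 hx
    rw [map_smul, hcon]
    exact hx)
  rcases h1 with h1 | h1
  · exact hv (Submodule.span_singleton_eq_bot.1 h1)
  · have h2 : w ∈ Submodule.span k {v} := by rw [h1]; trivial
    obtain ⟨c, rfl⟩ := Submodule.mem_span_singleton.1 h2
    rw [map_smul, hcon] at hw
    exact hw rfl

/-- **the pairing lemma** -/
theorem pairing {ρ : Representation k H V} (hirr : Irr ρ) (hnt : NonTriv ρ) {A B : Subgroup H}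
    (hAB : ∀ h : H, ∃ x ∈ A, ∃ y ∈ B, h = x * y) {f : V →ₗ[k] k} (hf : ∀ x ∈ A, ∀ v, f (ρ x v) = f v) {b : V}
    (hb : Fixed ρ B b) : f = 0 ∨ b = 0 := by
  by_contra hcon
  push Not at hcon
  obtain ⟨hf0, hb0⟩ := hcon
  have h1 : ∀ h, f (ρ h b) = f b := by
    intro h
    obtain ⟨x, hx, y, hy, rfl⟩ := hAB h
    rw [mul_apply, hb y hy, hf x hx]
  obtain ⟨g, hg⟩ := exists_moved hirr hnt hb0
  have h2 := span_orbit hirr (sub_ne_zero.2 hg)
  apply hf0
  ext v
  have h3 : v ∈ Submodule.span k (Set.range fun h : H => ρ h (ρ g b - b)) := by rw [h2]; trivial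
  rw [LinearMap.zero_apply]
  induction h3 using Submodule.span_induction with
  | mem x hx =>
    obtain ⟨h, rfl⟩ := hx
    change f (ρ h (ρ g b - b)) = 0
    rw [map_sub, map_sub, ← mul_apply, h1, h1, sub_self]
  | zero => rw [map_zero]
  | add x y _ _ hx hy => rw [map_add, hx, hy, add_zero]
  | smul c x _ hx => rw [map_smul, hx, smul_zero]

/-- conjugate subgroup and fixed vectors -/
theorem Fixed.conj {ρ : Representation k H V} {A : Subgroup H} {a : V} (ha : Fixed ρ A a) (h : H) :
    Fixed ρ (A.map (MulAut.conj h).toMonoidHom) (ρ h a) := by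
  rintro _ ⟨x, hx, rfl⟩
  change ρ (h * x * h⁻¹) (ρ h a) = ρ h a
  rw [mul_apply, mul_apply, inv_apply_apply, ha x hx]

theorem index_conj (A : Subgroup H) (h : H) : (A.map (MulAut.conj h).toMonoidHom).index = A.index :=
  Subgroup.index_map_equiv A (MulAut.conj h)

/-- finite group: the nontrivial case is finite dimensional -/
theorem finite_of_irr [Finite H] {ρ : Representation k H V} (hirr : Irr ρ) : FiniteDimensional k V := by
  rcases subsingleton_or_nontrivial V with h | h
  · infer_instance
  · obtain ⟨v, hv⟩ := exists_ne (0 : V)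
    have h1 := span_orbit hirr hv
    exact ⟨by rw [← h1]; exact Submodule.fg_span (Set.finite_range _)⟩

end Basic

/-- **Row predicate**: no coprime orbits in the nontrivial irreducible representations of `H` over prime fields. -/
def CopRow (H : Type w) [Group H] : Prop :=
  ∀ (p : ℕ) [Fact p.Prime] (n : ℕ) (ρ : Representation (ZMod p) H (Fin n → ZMod p)), Irr ρ → NonTriv ρ → NoCop ρ

end Cfsg.Agent.H976.Cop
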