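import Mathlib

/-!
# Separating finite simple modules by ring elements; trace functions

* `exists_sep` : for non-isomorphic finite simple modules `V`, `W` some ring element acts as `1` on `V` and as `0` on `W`;
* `exists_sep_family` : the same for a finite family;
* `exists_trace` : `V` finite simple over the ring `Γ`: some element of `Γ` has nonzero trace over `F_p` on `V`.
-/

set_option autoImplicit false

namespace Cfsg.Agent.H976.Cop

section Ring

variable {Γ : Type*} [Ring Γ]

theorem hom_eq_zero {V W : Type*} [AddCommGroup V] [AddCommGroup W] [Module Γ V] [Module Γ W]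
    [IsSimpleModule Γ V] [IsSimpleModule Γ W] (h : IsEmpty (V ≃ₗ[Γ] W)) (f : V →ₗ[Γ] W) : f = 0 :=
  (LinearMap.bijective_or_eq_zero f).resolve_left fun hb => h.false (LinearEquiv.ofBijective f hb)

/-- **separation of two simple modules** -/
theorem exists_sep {V W : Type*} [AddCommGroup V] [AddCommGroup W] [Module Γ V] [Module Γ W]
    [IsSimpleModule Γ V] [IsSimpleModule Γ W] [Finite V] [Finite W] (h : IsEmpty (V ≃ₗ[Γ] W)) :
    ∃ r : Γ, (∀ v : V, r • v = v) ∧ ∀ w : W, r • w = 0 := by
  classical
  have := Fintype.ofFinite V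
  have := Fintype.ofFinite W
  have h' : IsEmpty (W ≃ₗ[Γ] V) := ⟨fun e => h.false e.symm⟩
  have hss : IsSemisimpleModule Γ (V × W) := by
    have h1 : IsSemisimpleModule Γ ↥(LinearMap.range (LinearMap.inl Γ V W) ⊔ LinearMap.range (LinearMap.inr Γ V W)) :=
      IsSemisimpleModule.sup (IsSemisimpleModule.range _) (IsSemisimpleModule.range _)
    rw [LinearMap.sup_range_inl_inr] at h1
    exact IsSemisimpleModule.congr Submodule.topEquiv.symm
  let f : Module.End (Module.End Γ (V × W)) (V × W) :=
    { toFun := fun m => (m.1, 0)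
      map_add' := fun x y => by simp
      map_smul' := fun φ m => by
        have e1 : (LinearMap.snd Γ V W).comp ((φ : V × W →ₗ[Γ] V × W).comp (LinearMap.inl Γ V W)) = 0 :=
          hom_eq_zero h _
        have e2 : (LinearMap.fst Γ V W).comp ((φ : V × W →ₗ[Γ] V × W).comp (LinearMap.inr Γ V W)) = 0 :=
          hom_eq_zero h' _
        have e3 : (φ (m.1, 0)).2 = 0 := LinearMap.congr_fun e1 m.1
        have e4 : (φ (0, m.2)).1 = 0 := LinearMap.congr_fun e2 m.2
        have e5 : φ m = φ (m.1, 0) + φ (0, m.2) := by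
          rw [← map_add, Prod.mk_add_mk, add_zero, zero_add]
        change (((φ m).1, 0) : V × W) = φ (m.1, 0)
        rw [e5, Prod.fst_add, e4, add_zero]
        exact Prod.ext rfl e3.symm }
  obtain ⟨r, hr⟩ := jacobson_density (R := Γ) f Finset.univ
  refine ⟨r, fun v => ?_, fun w => ?_⟩
  · have h1 := hr (v, 0) (Finset.mem_univ _)
    have h2 : ((v, 0) : V × W) = r • ((v, 0) : V × W) := h1
    exact (congrArg Prod.fst h2).symm
  · have h1 := hr (0, w) (Finset.mem_univ _)
    have h2 : ((0, 0) : V × W) = r • ((0, w) : V × W) := h1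
    exact (congrArg Prod.snd h2).symm

/-- **separation of a family of simple modules** -/
theorem exists_sep_family {ι : Type*} [Finite ι] {V : ι → Type*} [∀ i, AddCommGroup (V i)] [∀ i, Module Γ (V i)]
    [∀ i, IsSimpleModule Γ (V i)] [∀ i, Finite (V i)] (i : ι) (h : ∀ j, j ≠ i → IsEmpty (V i ≃ₗ[Γ] V j)) :
    ∃ r : Γ, (∀ v : V i, r • v = v) ∧ ∀ j, j ≠ i → ∀ w : V j, r • w = 0 := by
  classical
  have := Fintype.ofFinite ι
  have key : ∀ s : Finset ι, i ∉ s → ∃ r : Γ, (∀ v : V i, r • v = v) ∧ ∀ j ∈ s, ∀ w : V j, r • w = 0 := by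
    intro s
    induction s using Finset.induction_on with
    | empty => exact fun _ => ⟨1, fun v => one_smul _ v, fun j hj => absurd hj (Finset.notMem_empty j)⟩
    | insert a s has ih =>
      intro hi
      rw [Finset.mem_insert, not_or] at hi
      obtain ⟨r, hr1, hr2⟩ := ih hi.2
      obtain ⟨t, ht1, ht2⟩ := exists_sep (h a (Ne.symm hi.1))
      refine ⟨r * t, fun v => by rw [mul_smul, ht1, hr1], fun j hj w => ?_⟩
      rw [Finset.mem_insert] at hj
      by_cases hja : j = a
      · subst hja
        rw [mul_smul, ht2, smul_zero]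
      · rw [mul_smul]
        exact hr2 j (hj.resolve_left hja) _
  obtain ⟨r, hr1, hr2⟩ := key (Finset.univ.erase i) (Finset.notMem_erase i _)
  exact ⟨r, hr1, fun j hj w => hr2 j (Finset.mem_erase.2 ⟨hj, Finset.mem_univ j⟩) w⟩

/-- **a finite simple module has a nonzero trace function** -/
theorem exists_trace (p : ℕ) [Fact p.Prime] {V : Type*} [AddCommGroup V] [Module Γ V] [IsSimpleModule Γ V] [Finite V]
    [Module (ZMod p) V] : ∃ (r : Γ) (f : V →ₗ[ZMod p] V), (∀ v, f v = r • v) ∧ LinearMap.trace (ZMod p) V f ≠ 0 := by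
  classical
  have := Fintype.ofFinite V
  have hnt : Nontrivial V := IsSimpleModule.nontrivial Γ V
  obtain ⟨v, hv⟩ := exists_ne (0 : V)
  have hfinD : Finite (Module.End Γ V) :=
    Finite.of_injective (fun f : Module.End Γ V => (f : V → V)) DFunLike.coe_injective
  let D := Module.End Γ V
  let _ : DivisionRing D := Module.End.instDivisionRing
  let _ : Field D := littleWedderburn D
  -- `D` is an algebra over `F_p`
  have hpD : (p : D) = 0 := by
    ext x
    have h1 : ((p : D) : V → V) x = p • x := by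
      rw [Module.End.natCast_apply]
    rw [h1, ← Nat.cast_smul_eq_nsmul (ZMod p), ZMod.natCast_self, zero_smul]
    rfl
  have : CharP D p := (CharP.charP_iff_prime_eq_zero Fact.out).2 hpD
  let _ : Algebra (ZMod p) D := ZMod.algebra D p
  have : FiniteDimensional (ZMod p) D := Module.Finite.of_finite
  obtain ⟨d, hd⟩ : ∃ d : D, Algebra.trace (ZMod p) D d ≠ 0 := by
    by_contra hcon
    push Not at hcon
    exact Algebra.trace_ne_zero (ZMod p) D (LinearMap.ext hcon)
  let ι : D →ₗ[D] V := LinearMap.toSpanSingleton D V v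
  have hι : LinearMap.ker ι = ⊥ := by
    rw [LinearMap.ker_eq_bot']
    intro x hx
    have h1 : x • v = 0 := hx
    by_contra hx0
    apply hv
    have h2 : x⁻¹ • (x • v) = v := by rw [smul_smul, inv_mul_cancel₀ hx0, one_smul]
    rw [← h2, h1, smul_zero]
  obtain ⟨π, hπ⟩ := LinearMap.exists_leftInverse_of_injective ι hι
  have hπ' : ∀ x : D, π (ι x) = x := fun x => LinearMap.congr_fun hπ x
  -- the `D`-linear map `x ↦ π(x) d v`
  let f : Module.End D V := ι.comp ((LinearMap.mulRight D d).comp π)
  obtain ⟨r, hr⟩ := jacobson_density (R := Γ) f Finset.univ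
  let π' : V →ₗ[ZMod p] D := AddMonoidHom.toZModLinearMap p π.toAddMonoidHom
  let ι' : D →ₗ[ZMod p] V := AddMonoidHom.toZModLinearMap p ι.toAddMonoidHom
  refine ⟨r, ι'.comp ((LinearMap.mulLeft (ZMod p) d).comp π'), fun x => ?_, ?_⟩
  · rw [← hr x (Finset.mem_univ x)]
    change ι (d * π x) = ι (π x * d)
    rw [mul_comm]
  · rw [LinearMap.trace_comp_comm', LinearMap.comp_assoc]
    have h1 : π'.comp ι' = LinearMap.id := LinearMap.ext hπ'
    rw [h1, LinearMap.comp_id]
    exact hd

end Ring

end Cfsg.Agent.H976.Cop
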