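import Cfsg.Agent.H976.Cop.Basic
import Cfsg.Agent.H976.Cop.Sep

/-!
# Criterion: elements conjugate to their inverses under automorphisms (S4175)

`RP p H` : for every `h ∈ H` some `p`-power power of `h⁻¹` is the image under an automorphism of `H` of a `p`-power power of
`h`.  Then the dual of every irreducible `F_p H`-module is twisted by an automorphism of `H`, and `copRow_of_rp`.
-/

set_option autoImplicit false

namespace Cfsg.Agent.H976.Cop

open MonoidAlgebra Matrix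

variable {p : ℕ} [Fact p.Prime] {n : ℕ} {H : Type*} [Group H]

/-- representations on `F_p ^ n` -/
abbrev Rp (p : ℕ) [Fact p.Prime] (n : ℕ) (H : Type*) [Group H] := Representation (ZMod p) H (Fin n → ZMod p)

/-- the dual representation -/
noncomputable def dl (ρ : Rp p n H) : Rp p n H where
  toFun h := Matrix.toLin' (LinearMap.toMatrix' (ρ h⁻¹))ᵀ
  map_one' := by simp; rfl
  map_mul' g h := by
    rw [_root_.mul_inv_rev, map_mul, LinearMap.toMatrix'_mul, Matrix.transpose_mul, Matrix.toLin'_mul]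
    rfl

theorem dl_dot (ρ : Rp p n H) (h : H) (v w : Fin n → ZMod p) : dl ρ h v ⬝ᵥ w = v ⬝ᵥ ρ h⁻¹ w := by
  change Matrix.toLin' (LinearMap.toMatrix' (ρ h⁻¹))ᵀ v ⬝ᵥ w = _
  rw [Matrix.toLin'_apply, Matrix.mulVec_transpose, ← Matrix.dotProduct_mulVec, ← Matrix.toLin'_apply,
    Matrix.toLin'_toMatrix']

theorem dl_trace (ρ : Rp p n H) (h : H) :
    LinearMap.trace (ZMod p) _ (dl ρ h) = LinearMap.trace (ZMod p) _ (ρ h⁻¹) := by
  change LinearMap.trace (ZMod p) _ (Matrix.toLin' (LinearMap.toMatrix' (ρ h⁻¹))ᵀ) = _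
  rw [Matrix.trace_toLin'_eq, Matrix.trace_transpose, ← Matrix.trace_toLin'_eq, Matrix.toLin'_toMatrix']

theorem dl_irr {ρ : Rp p n H} (hirr : Irr ρ) : Irr (dl ρ) := by
  intro W hW
  let W' : Submodule (ZMod p) (Fin n → ZMod p) :=
    { carrier := {w | ∀ v ∈ W, v ⬝ᵥ w = 0}
      add_mem' := fun {a b} ha hb v hv => by rw [dotProduct_add, ha v hv, hb v hv, add_zero]
      zero_mem' := fun v _ => dotProduct_zero v
      smul_mem' := fun c w hw v hv => by rw [dotProduct_smul, hw v hv, smul_zero] }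
  have hW' : ∀ h : H, ∀ w ∈ W', ρ h w ∈ W' := by
    intro h w hw v hv
    have h1 := dl_dot ρ h⁻¹ v w
    rw [inv_inv] at h1
    rw [← h1]
    exact hw _ (hW h⁻¹ v hv)
  rcases hirr W' hW' with h1 | h1
  · right
    by_contra hne
    obtain ⟨f, hf0, hf⟩ := Submodule.exists_le_ker_of_lt_top W (lt_top_iff_ne_top.2 hne)
    let w : Fin n → ZMod p := fun i => f (Pi.single i 1)
    have hfw : ∀ v, f v = v ⬝ᵥ w := by
      intro v
      rw [LinearMap.pi_apply_eq_sum_univ f v]
      simp only [dotProduct, smul_eq_mul]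
      refine Finset.sum_congr rfl fun i _ => ?_
      congr 2
      funext j
      simp [Pi.single_apply, eq_comm]
    have hw : w ∈ W' := fun v hv => by rw [← hfw]; exact hf hv
    rw [h1, Submodule.mem_bot] at hw
    apply hf0
    ext i
    change f _ = 0
    rw [hfw, hw, dotProduct_zero]
  · left
    rw [eq_bot_iff]
    intro v hv
    rw [Submodule.mem_bot]
    funext i
    have h2 : (Pi.single i 1 : Fin n → ZMod p) ∈ W' := by rw [h1]; trivial
    have h3 := h2 v hv
    rw [dotProduct_single, mul_one] at h3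
    exact h3

/-- twist with an automorphism -/
def tw (ρ : Rp p n H) (α : MulAut H) : Rp p n H := ρ.comp α.toMonoidHom

theorem tw_apply (ρ : Rp p n H) (α : MulAut H) (h : H) : tw ρ α h = ρ (α h) := rfl

theorem tw_irr {ρ : Rp p n H} (hirr : Irr ρ) (α : MulAut H) : Irr (tw ρ α) := by
  intro W hW
  refine hirr W fun h w hw => ?_
  have h1 := hW (α.symm h) w hw
  rwa [tw_apply, MulEquiv.apply_symm_apply] at h1

/-- equivalent representations -/
def Eqv (ρ σ : Rp p n H) : Prop :=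
  ∃ φ : (Fin n → ZMod p) ≃ₗ[ZMod p] (Fin n → ZMod p), ∀ h v, φ (ρ h v) = σ h (φ v)

theorem Eqv.refl (ρ : Rp p n H) : Eqv ρ ρ := ⟨LinearEquiv.refl _ _, fun _ _ => rfl⟩

theorem Eqv.symm {ρ σ : Rp p n H} (h : Eqv ρ σ) : Eqv σ ρ := by
  obtain ⟨φ, hφ⟩ := h
  refine ⟨φ.symm, fun g v => φ.injective ?_⟩
  rw [hφ, LinearEquiv.apply_symm_apply, LinearEquiv.apply_symm_apply]

theorem Eqv.trans {ρ σ τ : Rp p n H} (h : Eqv ρ σ) (h' : Eqv σ τ) : Eqv ρ τ := by
  obtain ⟨φ, hφ⟩ := h
  obtain ⟨ψ, hψ⟩ := h'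
  refine ⟨φ.trans ψ, fun g v => ?_⟩
  rw [LinearEquiv.trans_apply, LinearEquiv.trans_apply, hφ, hψ]

theorem Eqv.trace {ρ σ : Rp p n H} (h : Eqv ρ σ) (g : H) :
    LinearMap.trace (ZMod p) _ (ρ g) = LinearMap.trace (ZMod p) _ (σ g) := by
  obtain ⟨φ, hφ⟩ := h
  have h1 : σ g = φ.conj (ρ g) := by
    apply LinearMap.ext
    intro v
    rw [LinearEquiv.conj_apply_apply, hφ, LinearEquiv.apply_symm_apply]
  rw [h1, LinearMap.trace_conj']

theorem Eqv.tw {ρ σ : Rp p n H} (h : Eqv ρ σ) (α : MulAut H) : Eqv (Cop.tw ρ α) (Cop.tw σ α) := by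
  obtain ⟨φ, hφ⟩ := h
  exact ⟨φ, fun g v => hφ (α g) v⟩

theorem Eqv.dl {ρ σ : Rp p n H} (h : Eqv ρ σ) : Eqv (Cop.dl ρ) (Cop.dl σ) := by
  obtain ⟨φ, hφ⟩ := h
  -- the transposed inverse
  let M := LinearMap.toMatrix' φ.symm.toLinearMap
  let N := LinearMap.toMatrix' φ.toLinearMap
  have hMN : M * N = 1 := by
    rw [← LinearMap.toMatrix'_comp, LinearEquiv.symm_comp, LinearMap.toMatrix'_id]
  have hNM : N * M = 1 := by
    rw [← LinearMap.toMatrix'_comp, LinearEquiv.comp_symm, LinearMap.toMatrix'_id]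
  have h1 : Mᵀ * Nᵀ = 1 := by rw [← Matrix.transpose_mul, hNM, Matrix.transpose_one]
  have h2 : Nᵀ * Mᵀ = 1 := by rw [← Matrix.transpose_mul, hMN, Matrix.transpose_one]
  have hd : ∀ v w, Matrix.toLin' Mᵀ v ⬝ᵥ w = v ⬝ᵥ φ.symm w := by
    intro v w
    rw [Matrix.toLin'_apply, Matrix.mulVec_transpose, ← Matrix.dotProduct_mulVec, ← Matrix.toLin'_apply,
      Matrix.toLin'_toMatrix']
    rfl
  have hext : ∀ a b : Fin n → ZMod p, (∀ w, a ⬝ᵥ w = b ⬝ᵥ w) → a = b := fun a b hab => by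
    funext i
    have := hab (Pi.single i 1)
    rwa [dotProduct_single, dotProduct_single, mul_one, mul_one] at this
  refine ⟨LinearEquiv.ofLinearMap (Matrix.toLin' Mᵀ) (Matrix.toLin' Nᵀ) ?_ ?_, fun g v => ?_⟩
  · rw [← Matrix.toLin'_mul, h1, Matrix.toLin'_one]
  · rw [← Matrix.toLin'_mul, h2, Matrix.toLin'_one]
  · change Matrix.toLin' Mᵀ (Cop.dl ρ g v) = Cop.dl σ g (Matrix.toLin' Mᵀ v)
    apply hext
    intro w
    rw [hd, dl_dot, dl_dot, hd]
    congr 1
    apply φ.injective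
    rw [hφ, LinearEquiv.apply_symm_apply, LinearEquiv.apply_symm_apply]

theorem dl_dl (ρ : Rp p n H) : dl (dl ρ) = ρ := by
  apply MonoidHom.ext
  intro h
  apply LinearMap.ext
  intro v
  have hext : ∀ a b : Fin n → ZMod p, (∀ w, a ⬝ᵥ w = b ⬝ᵥ w) → a = b := fun a b hab => by
    funext i
    have := hab (Pi.single i 1)
    rwa [dotProduct_single, dotProduct_single, mul_one, mul_one] at this
  apply hext
  intro w
  rw [dl_dot, dotProduct_comm, dl_dot, inv_inv, dotProduct_comm]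

theorem dl_tw (ρ : Rp p n H) (α : MulAut H) : dl (tw ρ α) = tw (dl ρ) α := by
  apply MonoidHom.ext
  intro h
  change Matrix.toLin' (LinearMap.toMatrix' (ρ (α h⁻¹)))ᵀ = Matrix.toLin' (LinearMap.toMatrix' (ρ (α h)⁻¹))ᵀ
  rw [map_inv]

theorem tw_tw (ρ : Rp p n H) (α β : MulAut H) : tw (tw ρ α) β = tw ρ (α * β) := rfl

theorem tw_one (ρ : Rp p n H) : tw ρ 1 = ρ := rfl

section Mod

theorem simple_of_irr {ρ : Rp p n H} (hirr : Irr ρ) (hn : Nontrivial (Fin n → ZMod p)) :
    IsSimpleModule (MonoidAlgebra (ZMod p) H) ρ.asModule := by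
  have hn' : Nontrivial ρ.asModule := hn
  refine (isSimpleModule_iff _ _).2 ⟨fun N => ?_⟩
  let W : Submodule (ZMod p) (Fin n → ZMod p) :=
    { carrier := {v | ρ.asModuleEquiv.symm v ∈ N}
      add_mem' := fun {a b} ha hb => by
        change ρ.asModuleEquiv.symm (a + b) ∈ N
        rw [map_add]; exact N.add_mem ha hb
      zero_mem' := by
        change ρ.asModuleEquiv.symm 0 ∈ N
        rw [map_zero]; exact N.zero_mem
      smul_mem' := fun c v hv => by
        change ρ.asModuleEquiv.symm (c • v) ∈ N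
        rw [Representation.asModuleEquiv_symm_map_smul]
        exact N.smul_mem _ hv }
  have h1 := hirr W (by
    intro h w hw
    change ρ.asModuleEquiv.symm (ρ h w) ∈ N
    rw [Representation.asModuleEquiv_symm_map_rho]
    exact N.smul_mem _ hw)
  rcases h1 with h1 | h1
  · left
    rw [eq_bot_iff]
    intro x hx
    have h2 : ρ.asModuleEquiv x ∈ W := by
      change ρ.asModuleEquiv.symm (ρ.asModuleEquiv x) ∈ N
      rw [LinearEquiv.symm_apply_apply]; exact hx
    rw [h1, Submodule.mem_bot] at h2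
    rw [Submodule.mem_bot]
    exact (LinearEquiv.map_eq_zero_iff _).1 h2
  · right
    rw [eq_top_iff]
    intro x _
    have h2 : ρ.asModuleEquiv x ∈ W := by rw [h1]; trivial
    have h3 : ρ.asModuleEquiv.symm (ρ.asModuleEquiv x) ∈ N := h2
    rwa [LinearEquiv.symm_apply_apply] at h3

theorem eqv_of_iso {ρ σ : Rp p n H} (e : ρ.asModule ≃ₗ[MonoidAlgebra (ZMod p) H] σ.asModule) : Eqv ρ σ := by
  refine ⟨(ρ.asModuleEquiv.symm.trans (e.restrictScalars (ZMod p))).trans σ.asModuleEquiv, fun h v => ?_⟩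
  change σ.asModuleEquiv (e (ρ.asModuleEquiv.symm (ρ h v))) = σ h (σ.asModuleEquiv (e (ρ.asModuleEquiv.symm v)))
  rw [Representation.asModuleEquiv_symm_map_rho, map_smul, Representation.asModuleEquiv_map_smul,
    Representation.asAlgebraHom_of]

end Mod

end Cfsg.Agent.H976.Cop
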