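import Cfsg.Agent.H976.Cop.Crit

/-!
# The criterion for `CopRow` (S4175)

`copRow_of_rp` : if for every prime `p` and every `h ∈ H` some `p`-power power of `h⁻¹` is the image under an automorphism
of a `p`-power power of `h`, then `CopRow H`; in particular if every element is mapped to its inverse by some automorphism
(`copRow_of_real`).
-/

set_option autoImplicit false

namespace Cfsg.Agent.H976.Cop

open MonoidAlgebra Matrix

variable {p : ℕ} [hp : Fact p.Prime] {n : ℕ} {H : Type*} [Group H]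

theorem trace_pow_p (ρ : Rp p n H) (h : H) :
    LinearMap.trace (ZMod p) _ (ρ (h ^ p)) = LinearMap.trace (ZMod p) _ (ρ h) := by
  have h1 := ZMod.trace_pow_card (LinearMap.toMatrix' (ρ h))
  rw [ZMod.pow_card] at h1
  rw [map_pow, ← Matrix.toLin'_toMatrix' (ρ h ^ p), Matrix.trace_toLin'_eq,
    ← Matrix.toLin'_toMatrix' (ρ h), Matrix.trace_toLin'_eq, Matrix.toLin'_toMatrix']
  rw [← h1]
  congr 1
  generalize ρ h = f
  clear h1
  have : ∀ m : ℕ, LinearMap.toMatrix' (f ^ m) = LinearMap.toMatrix' f ^ m := by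
    intro m
    induction m with
    | zero => simp [Module.End.one_eq_id]
    | succ m ih => rw [pow_succ, LinearMap.toMatrix'_mul, ih, pow_succ]
  exact this p

theorem trace_pow_pow (ρ : Rp p n H) (h : H) (i : ℕ) :
    LinearMap.trace (ZMod p) _ (ρ (h ^ p ^ i)) = LinearMap.trace (ZMod p) _ (ρ h) := by
  induction i with
  | zero => rw [pow_zero, pow_one]
  | succ i ih => rw [pow_succ, pow_mul, trace_pow_p, ih]

/-- twist classes -/
def stw (ρ : Rp p n H) : Setoid (MulAut H) where
  r α β := Eqv (tw ρ α) (tw ρ β)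
  iseqv := ⟨fun _ => Eqv.refl _, fun h => h.symm, fun h h' => h.trans h'⟩

theorem asAlg_zero {ρ : Rp p n H} {r : MonoidAlgebra (ZMod p) H} (h : ∀ v : ρ.asModule, r • v = 0) :
    ρ.asAlgebraHom r = 0 := by
  apply LinearMap.ext
  intro v
  have h1 := h (ρ.asModuleEquiv.symm v)
  have h2 := ρ.asModuleEquiv_map_smul r (ρ.asModuleEquiv.symm v)
  rw [h1, map_zero, LinearEquiv.apply_symm_apply] at h2
  exact h2.symm

theorem asAlg_one {ρ : Rp p n H} {r : MonoidAlgebra (ZMod p) H} (h : ∀ v : ρ.asModule, r • v = v) :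
    ρ.asAlgebraHom r = 1 := by
  apply LinearMap.ext
  intro v
  have h1 := h (ρ.asModuleEquiv.symm v)
  have h2 := ρ.asModuleEquiv_map_smul r (ρ.asModuleEquiv.symm v)
  rw [h1, LinearEquiv.apply_symm_apply] at h2
  exact h2.symm

/-- the family of the twists and their duals -/
noncomputable def fam (ρ : Rp p n H) : Quotient (stw ρ) ⊕ Quotient (stw ρ) → Rp p n H
  | Sum.inl c => tw ρ c.out
  | Sum.inr c => dl (tw ρ c.out)

theorem exists_twist [Finite H] {ρ : Rp p n H} (hirr : Irr ρ) (hn : Nontrivial (Fin n → ZMod p))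
    (hRP : ∀ h : H, ∃ (α : MulAut H) (i j : ℕ), h⁻¹ ^ p ^ i = α (h ^ p ^ j)) :
    ∃ α : MulAut H, Eqv (dl ρ) (tw ρ α) := by
  classical
  by_contra hcon
  push Not at hcon
  let Q := Quotient (stw ρ)
  have hfin : Finite (MulAut H) := Finite.of_injective (fun f : MulAut H => (f : H → H)) DFunLike.coe_injective
  have hQ : Finite Q := Quotient.finite _
  have := Fintype.ofFinite Q
  have hout : ∀ α : MulAut H, Eqv (tw ρ (Quotient.mk (stw ρ) α).out) (tw ρ α) := fun α =>
    Quotient.exact (s := stw ρ) (Quotient.out_eq _)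
  have hRirr : ∀ i : Q ⊕ Q, Irr (fam ρ i) := by
    rintro (c | c)
    · exact tw_irr hirr _
    · exact dl_irr (tw_irr hirr _)
  have hsimp : ∀ i : Q ⊕ Q, IsSimpleModule (MonoidAlgebra (ZMod p) H) (fam ρ i).asModule := fun i => simple_of_irr (hRirr i) hn
  have hfinV : ∀ i : Q ⊕ Q, Finite (fam ρ i).asModule := fun i => (inferInstance : Finite (Fin n → ZMod p))
  let c0 : Q := Quotient.mk (stw ρ) 1
  obtain ⟨r, hr1, hr0⟩ := exists_sep_family (Γ := MonoidAlgebra (ZMod p) H) (V := fun i : Q ⊕ Q => (fam ρ i).asModule)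
    (Sum.inr c0) (by
      rintro (c | c) hc
      · refine ⟨fun e => hcon c.out ?_⟩
        have h1 : Eqv (dl (tw ρ c0.out)) (tw ρ c.out) := eqv_of_iso e
        exact ((hout 1).dl.symm).trans h1
      · refine ⟨fun e => hc ?_⟩
        have h1 : Eqv (dl (tw ρ c0.out)) (dl (tw ρ c.out)) := eqv_of_iso e
        have h2 := h1.dl
        rw [dl_dl, dl_dl] at h2
        have h3 : c0 = c := by
          have h4 : Quotient.mk (stw ρ) c0.out = Quotient.mk (stw ρ) c.out := Quotient.sound (s := stw ρ) h2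
          rwa [Quotient.out_eq, Quotient.out_eq] at h4
        rw [h3])
  obtain ⟨y, f, hf, hft⟩ := exists_trace (Γ := MonoidAlgebra (ZMod p) H) p (V := (fam ρ (Sum.inr c0)).asModule)
  -- the trace functions
  let T : MonoidAlgebra (ZMod p) H →ₗ[ZMod p] ZMod p :=
    ∑ c : Q, (LinearMap.trace (ZMod p) _).comp (fam ρ (Sum.inl c)).asAlgebraHom.toLinearMap
  let T' : MonoidAlgebra (ZMod p) H →ₗ[ZMod p] ZMod p :=
    ∑ c : Q, (LinearMap.trace (ZMod p) _).comp (fam ρ (Sum.inr c)).asAlgebraHom.toLinearMap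
  -- `t` is invariant under automorphisms
  let t : H → ZMod p := fun h => ∑ c : Q, LinearMap.trace (ZMod p) _ (ρ (c.out h))
  have ht1 : ∀ (β : MulAut H) (h : H), t (β h) = t h := by
    intro β h
    let e : Q ≃ Q :=
      { toFun := Quotient.map (sa := stw ρ) (sb := stw ρ) (fun α => α * β) (fun a b (hab : Eqv (tw ρ a) (tw ρ b)) =>
          (hab.tw β : Eqv (tw ρ (a * β)) (tw ρ (b * β))))
        invFun := Quotient.map (sa := stw ρ) (sb := stw ρ) (fun α => α * β⁻¹) (fun a b (hab : Eqv (tw ρ a) (tw ρ b)) =>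
          (hab.tw β⁻¹ : Eqv (tw ρ (a * β⁻¹)) (tw ρ (b * β⁻¹))))
        left_inv := by
          intro c
          induction c using Quotient.inductionOn with
          | h a => change Quotient.mk (stw ρ) (a * β * β⁻¹) = Quotient.mk (stw ρ) a; rw [mul_inv_cancel_right]
        right_inv := by
          intro c
          induction c using Quotient.inductionOn with
          | h a => change Quotient.mk (stw ρ) (a * β⁻¹ * β) = Quotient.mk (stw ρ) a; rw [inv_mul_cancel_right] }
    change ∑ c : Q, LinearMap.trace (ZMod p) _ (ρ (c.out (β h))) = ∑ c : Q, LinearMap.trace (ZMod p) _ (ρ (c.out h))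
    refine Eq.trans ?_ (Equiv.sum_comp e (fun c : Q => LinearMap.trace (ZMod p) _ (ρ (c.out h))))
    refine Finset.sum_congr rfl fun c _ => ?_
    have h1 : e c = Quotient.mk (stw ρ) (c.out * β) := by
      conv_lhs => rw [← Quotient.out_eq c]
      rfl
    rw [h1]
    exact ((hout (c.out * β)).trace h).symm
  have ht2 : ∀ (h : H) (i : ℕ), t (h ^ p ^ i) = t h := by
    intro h i
    refine Finset.sum_congr rfl fun c _ => ?_
    rw [map_pow, trace_pow_pow]
  have ht3 : ∀ h : H, t h⁻¹ = t h := by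
    intro h
    obtain ⟨α, i, j, hα⟩ := hRP h
    rw [← ht2 h⁻¹ i, hα, ht1, ht2]
  have hTT : T = T' := by
    apply MonoidAlgebra.lhom_ext'
    intro g
    apply LinearMap.ext
    intro c
    change T (MonoidAlgebra.single g c) = T' (MonoidAlgebra.single g c)
    have h1 : T (MonoidAlgebra.single g c) = c * t g := by
      change (∑ c : Q, (LinearMap.trace (ZMod p) _).comp (fam ρ (Sum.inl c)).asAlgebraHom.toLinearMap)
        (MonoidAlgebra.single g c) = _
      rw [LinearMap.sum_apply, Finset.mul_sum]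
      refine Finset.sum_congr rfl fun d _ => ?_
      change LinearMap.trace (ZMod p) _ ((fam ρ (Sum.inl d)).asAlgebraHom (MonoidAlgebra.single g c)) = _
      rw [Representation.asAlgebraHom_single, map_smul, smul_eq_mul]
      rfl
    have h2 : T' (MonoidAlgebra.single g c) = c * t g⁻¹ := by
      change (∑ c : Q, (LinearMap.trace (ZMod p) _).comp (fam ρ (Sum.inr c)).asAlgebraHom.toLinearMap)
        (MonoidAlgebra.single g c) = _
      rw [LinearMap.sum_apply, Finset.mul_sum]
      refine Finset.sum_congr rfl fun d _ => ?_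
      change LinearMap.trace (ZMod p) _ ((fam ρ (Sum.inr d)).asAlgebraHom (MonoidAlgebra.single g c)) = _
      rw [Representation.asAlgebraHom_single, map_smul, smul_eq_mul]
      change c * LinearMap.trace (ZMod p) _ (dl (tw ρ d.out) g) = _
      rw [dl_trace]
      rfl
    rw [h1, h2, ht3]
  have hT : T (r * y) = 0 := by
    change (∑ c : Q, (LinearMap.trace (ZMod p) _).comp (fam ρ (Sum.inl c)).asAlgebraHom.toLinearMap) (r * y) = 0
    rw [LinearMap.sum_apply]
    refine Finset.sum_eq_zero fun d _ => ?_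
    change LinearMap.trace (ZMod p) _ ((fam ρ (Sum.inl d)).asAlgebraHom (r * y)) = 0
    rw [map_mul, asAlg_zero (hr0 (Sum.inl d) (by simp)), zero_mul, map_zero]
  have hT' : T' (r * y) = LinearMap.trace (ZMod p) _ f := by
    change (∑ c : Q, (LinearMap.trace (ZMod p) _).comp (fam ρ (Sum.inr c)).asAlgebraHom.toLinearMap) (r * y) = _
    rw [LinearMap.sum_apply, Finset.sum_eq_single c0]
    · change LinearMap.trace (ZMod p) _ ((fam ρ (Sum.inr c0)).asAlgebraHom (r * y)) = _
      rw [map_mul, asAlg_one hr1, one_mul]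
      have h1 : (fam ρ (Sum.inr c0)).asAlgebraHom y = (fam ρ (Sum.inr c0)).asModuleEquiv.conj f := by
        apply LinearMap.ext
        intro v
        rw [LinearEquiv.conj_apply_apply, hf, Representation.asModuleEquiv_map_smul, LinearEquiv.apply_symm_apply]
      rw [h1, LinearMap.trace_conj']
    · intro d _ hd
      change LinearMap.trace (ZMod p) _ ((fam ρ (Sum.inr d)).asAlgebraHom (r * y)) = 0
      rw [map_mul, asAlg_zero (hr0 (Sum.inr d) (fun h => hd (Sum.inr_injective h))), zero_mul, map_zero]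
    · intro h; exact absurd (Finset.mem_univ _) h
  apply hft
  rw [← hT', ← hTT, hT]

/-- a twisted dual kills coprime fixed vectors -/
theorem noCop_of_twist [Finite H] {ρ : Rp p n H} (hirr : Irr ρ) (hnt : NonTriv ρ) {α : MulAut H}
    (h : Eqv (dl ρ) (tw ρ α)) : NoCop ρ := by
  intro A B hAB a b ha hb
  obtain ⟨φ, hφ⟩ := h
  by_contra hcon
  push Not at hcon
  let A' : Subgroup H := A.comap α.toMonoidHom
  have hA' : A'.index = A.index := Subgroup.index_comap_of_surjective A α.surjective
  let f : (Fin n → ZMod p) →ₗ[ZMod p] ZMod p :=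
    { toFun := fun w => φ.symm a ⬝ᵥ w
      map_add' := fun x y => dotProduct_add _ _ _
      map_smul' := fun c x => dotProduct_smul _ _ _ }
  have hfix : ∀ x ∈ A', dl ρ x (φ.symm a) = φ.symm a := by
    intro x hx
    apply φ.injective
    rw [hφ, LinearEquiv.apply_symm_apply]
    exact ha (α x) hx
  have h1 := pairing hirr hnt (A := A') (B := B) (fun g => by
    obtain ⟨x, hx, y, hy, e⟩ := exists_mul (A := A') (B := B) (by rw [hA']; exact hAB) g
    exact ⟨x, hx, y, hy, e⟩) (f := f) (fun x hx v => by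
      change φ.symm a ⬝ᵥ ρ x v = φ.symm a ⬝ᵥ v
      have h2 := dl_dot ρ x⁻¹ (φ.symm a) v
      rw [inv_inv, hfix _ (A'.inv_mem hx)] at h2
      exact h2.symm) hb
  rcases h1 with h1 | h1
  · apply hcon.1
    have h2 : φ.symm a = 0 := by
      funext i
      have h3 := LinearMap.congr_fun h1 (Pi.single i 1)
      change φ.symm a ⬝ᵥ Pi.single i 1 = 0 at h3
      rwa [dotProduct_single, mul_one] at h3
    exact (LinearEquiv.map_eq_zero_iff _).1 h2
  · exact hcon.2 h1

/-- **the criterion** -/
theorem copRow_of_rp {H : Type*} [Group H] [Finite H]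
    (hRP : ∀ p : ℕ, p.Prime → ∀ h : H, ∃ (α : MulAut H) (i j : ℕ), h⁻¹ ^ p ^ i = α (h ^ p ^ j)) : CopRow H := by
  intro p hp n ρ hirr hnt
  have hn : Nontrivial (Fin n → ZMod p) := by
    obtain ⟨h, v, hv⟩ := hnt
    exact ⟨⟨_, _, hv⟩⟩
  obtain ⟨α, hα⟩ := exists_twist hirr hn (hRP p hp.out)
  exact noCop_of_twist hirr hnt hα

/-- every element is mapped to its inverse by an automorphism -/
theorem copRow_of_real {H : Type*} [Group H] [Finite H] (h : ∀ x : H, ∃ α : MulAut H, α x = x⁻¹) : CopRow H :=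
  copRow_of_rp fun p _ x => by
    obtain ⟨α, hα⟩ := h x
    exact ⟨α, 0, 0, by rw [pow_zero, pow_one, pow_one, hα]⟩

end Cfsg.Agent.H976.Cop
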