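import Cfsg.Agent.H976.Cop.Bridge
import Cfsg.Agent.H976.Inv.Apply
import Cfsg.Agent.LieClassical.OmegaReindex

/-!
# Rows `PSp`, `PΩ`

* `real_isometry`: every element of the isometry group of a quadratic form with non-degenerate polar form over a
  finite field (any characteristic) is conjugate to its inverse in this group;
* `sp_anti`: every element of `Sp_2m(F)` is inverted by a matrix `S` with `S J Sᵀ = -J`.
-/

set_option autoImplicit false

namespace Cfsg.Agent.H976.Cop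

open Matrix QuadraticMap

section GLE

variable {ι : Type*} [Fintype ι] [DecidableEq ι] {F : Type*} [Field F]

/-- invertible matrices as linear automorphisms -/
def glEquiv : GL ι F ≃* ((ι → F) ≃ₗ[F] (ι → F)) :=
  (Matrix.GeneralLinearGroup.toLin).trans (LinearMap.GeneralLinearGroup.generalLinearEquiv F (ι → F))

theorem glEquiv_apply (g : GL ι F) (v : ι → F) : glEquiv g v = (g : Matrix ι ι F) *ᵥ v := rfl

theorem glEquiv_symm_mulVec (σ : (ι → F) ≃ₗ[F] (ι → F)) (v : ι → F) :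
    ((glEquiv.symm σ : GL ι F) : Matrix ι ι F) *ᵥ v = σ v := by
  rw [← glEquiv_apply, MulEquiv.apply_symm_apply]

end GLE

section Orth

variable {ι : Type} [Fintype ι] [DecidableEq ι] {F : Type*} [Field F]

theorem mem_iso (Q : (ι → F) → F) (g : GL ι F) :
    g ∈ Cfsg.isometryGroup F Q ↔ ∀ x, Q ((g : Matrix ι ι F) *ᵥ x) = Q x :=
  ⟨fun h x => h x x, fun h x _ => h x⟩

/-- every isometry of a quadratic form over a finite field (any characteristic) is inverted by an element `c` of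
order at most two of the isometry group: it is the product of the involutions `g c⁻¹` and `c` (or of elements of
order at most two) -/
theorem strongly_real_isometry [Finite F] (Q : QuadraticForm F (ι → F)) (hQ : (polarBilin Q).Nondegenerate)
    (g : Cfsg.isometryGroup F ⇑Q) : ∃ c : Cfsg.isometryGroup F ⇑Q, c * c = 1 ∧ c * g * c⁻¹ = g⁻¹ := by
  have hg := (mem_iso _ _).1 g.2
  have hQT : ∀ x, Q (glEquiv (g : GL ι F) x) = Q x := fun x => by rw [glEquiv_apply, hg]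
  obtain ⟨σ, hσ1, -, hσ3, hσ4⟩ := Cfsg.Agent.H976.Inv.exists_inverting (glEquiv (g : GL ι F))
    (orderOf_pos (g : GL ι F)) (by rw [← map_pow, pow_orderOf_eq_one, map_one]) (ε := 1) (κ := 1) (mul_one 1) (mul_one 1)
    (polarBilin Q) Q
    (fun x y => by rw [polarBilin_apply_apply, polarBilin_apply_apply, one_mul, polar_comm])
    (fun x y => by rw [polarBilin_apply_apply, one_mul, polar]; ring)
    (fun c x => by rw [QuadraticMap.map_smul, smul_eq_mul])
    (fun x hx => hQ.1 x hx)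
    (fun x y => by
      rw [polarBilin_apply_apply, polarBilin_apply_apply, polar, polar, ← map_add, hQT, hQT, hQT])
    hQT
  have hσU : (glEquiv.symm σ : GL ι F) ∈ Cfsg.isometryGroup F ⇑Q := by
    rw [mem_iso]
    intro x
    rw [glEquiv_symm_mulVec, hσ3]
  refine ⟨⟨_, hσU⟩, ?_, ?_⟩
  · apply Subtype.ext
    apply glEquiv.injective
    show glEquiv (glEquiv.symm σ * glEquiv.symm σ) = glEquiv 1
    rw [map_mul, MulEquiv.apply_symm_apply, map_one]
    apply LinearEquiv.ext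
    intro x
    exact hσ4 x
  rw [mul_inv_eq_iff_eq_mul]
  apply Subtype.ext
  apply glEquiv.injective
  show glEquiv (glEquiv.symm σ * (g : GL ι F)) = glEquiv ((g : GL ι F)⁻¹ * glEquiv.symm σ)
  rw [map_mul, map_mul, MulEquiv.apply_symm_apply, map_inv]
  apply LinearEquiv.ext
  intro x
  exact hσ1 x

/-- every isometry of a quadratic form over a finite field (any characteristic) is a product of two isometries of
order at most two -/
theorem isometry_eq_mul_invol [Finite F] (Q : QuadraticForm F (ι → F)) (hQ : (polarBilin Q).Nondegenerate)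
    (g : Cfsg.isometryGroup F ⇑Q) : ∃ s t : Cfsg.isometryGroup F ⇑Q, s * s = 1 ∧ t * t = 1 ∧ g = s * t := by
  obtain ⟨c, hc1, hc2⟩ := strongly_real_isometry Q hQ g
  have hc3 : c⁻¹ = c := inv_eq_of_mul_eq_one_left hc1
  refine ⟨g * c, c, ?_, hc1, ?_⟩
  · have h1 : g * c * (g * c) = g * (c * g * c⁻¹) * (c * c) := by group
    rw [h1, hc2, hc1, mul_inv_cancel, mul_one]
  · rw [mul_assoc, hc1, mul_one]

/-- every isometry of a quadratic form over a finite field (any characteristic) is conjugate to its inverse -/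
theorem real_isometry [Finite F] (Q : QuadraticForm F (ι → F)) (hQ : (polarBilin Q).Nondegenerate)
    (g : Cfsg.isometryGroup F ⇑Q) : ∃ c : Cfsg.isometryGroup F ⇑Q, c * g * c⁻¹ = g⁻¹ := by
  obtain ⟨c, -, hc⟩ := strongly_real_isometry Q hQ g
  exact ⟨c, hc⟩

theorem amb_omega [Finite F] (Q : QuadraticForm F (ι → F)) (hQ : (polarBilin Q).Nondegenerate) :
    Amb (Cfsg.Omega F ⇑Q) := by
  intro x
  obtain ⟨c, hc⟩ := real_isometry Q hQ (x : Cfsg.isometryGroup F ⇑Q)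
  refine ⟨MulAut.conjNormal c, ?_⟩
  apply Subtype.ext
  rw [MulAut.conjNormal_apply, hc]
  rfl

theorem amb_pomega [Finite F] (Q : QuadraticForm F (ι → F)) (hQ : (polarBilin Q).Nondegenerate) :
    Amb (Cfsg.POmega F ⇑Q) := (amb_omega Q hQ).quot (Subgroup.center (Cfsg.Omega F ⇑Q))

end Orth

open Cfsg.Agent.LieClassical.OmegaReindex

theorem two_ne_zero_of_odd {F : Type*} [Field F] [Fintype F] (h : Odd (Fintype.card F)) : (2 : F) ≠ 0 := by
  intro h2
  have h3 : ringChar F = 2 := by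
    have hch : CharP F 2 := CharTwo.of_one_ne_zero_of_two_eq_zero one_ne_zero h2
    exact ringChar.eq_iff.2 hch
  have h4 := FiniteField.even_card_of_char_two h3
  rw [Nat.odd_iff] at h
  omega

theorem row_omegaOdd {S : Type*} [Group S] [Finite S] (h : Cfsg.IsPOmegaOdd S) :
    Cfsg.Agent.H505.Cop.CopRow S := by
  obtain ⟨F, _, _, m, -, hodd, ⟨e⟩⟩ := h
  have h1 := amb_pomega (quadOdd m F) (quadOdd_nondegenerate (two_ne_zero_of_odd hodd))
  rw [coe_quadOdd] at h1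
  exact (h1.congr e.symm).cop

theorem row_omegaPlus {S : Type*} [Group S] [Finite S] (h : Cfsg.IsPOmegaPlus S) :
    Cfsg.Agent.H505.Cop.CopRow S := by
  obtain ⟨F, _, _, m, -, ⟨e⟩⟩ := h
  have h1 := amb_pomega (quadPlus m F) quadPlus_nondegenerate
  rw [coe_quadPlus] at h1
  exact (h1.congr e.symm).cop

theorem row_omegaMinus {S : Type*} [Group S] [Finite S] (h : Cfsg.IsPOmegaMinus S) :
    Cfsg.Agent.H505.Cop.CopRow S := by
  obtain ⟨F, _, _, m, a, b, -, hab, ⟨e⟩⟩ := h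
  have h1 := amb_pomega (quadMinus (m - 1) F a b) (quadMinus_nondegenerate hab)
  rw [coe_quadMinus] at h1
  exact (h1.congr e.symm).cop

section Sp

variable {m : ℕ} {F : Type*} [Field F]

theorem J_mul_J : (J (Fin m) F) * (J (Fin m) F) = -1 := by
  exact Matrix.J_squared _ _

/-- the symplectic form as a bilinear map -/
noncomputable def spB (m : ℕ) (F : Type*) [Field F] :
    (Fin m ⊕ Fin m → F) →ₗ[F] (Fin m ⊕ Fin m → F) →ₗ[F] F := Matrix.toLinearMap₂' F (J (Fin m) F)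

theorem spB_apply (x y : Fin m ⊕ Fin m → F) : spB m F x y = x ⬝ᵥ (J (Fin m) F *ᵥ y) :=
  Matrix.toLinearMap₂'_apply' _ _ _

theorem spB_skew (x y : Fin m ⊕ Fin m → F) : spB m F x y = -1 * spB m F y x := by
  rw [spB_apply, spB_apply, Matrix.dotProduct_mulVec, ← Matrix.mulVec_transpose, Matrix.J_transpose,
    Matrix.neg_mulVec, neg_dotProduct, dotProduct_comm, neg_one_mul]

/-- every symplectic matrix is inverted by an anti-symplectic one -/
theorem sp_anti [Finite F] (A : Matrix.symplecticGroup (Fin m) F) :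
    ∃ S : (Matrix (Fin m ⊕ Fin m) (Fin m ⊕ Fin m) F)ˣ,
      (S : Matrix (Fin m ⊕ Fin m) (Fin m ⊕ Fin m) F) * J (Fin m) F * (S : Matrix (Fin m ⊕ Fin m) (Fin m ⊕ Fin m) F)ᵀ
        = - J (Fin m) F ∧
      (S : Matrix (Fin m ⊕ Fin m) (Fin m ⊕ Fin m) F) * A =
        ((A⁻¹ : Matrix.symplecticGroup (Fin m) F) : Matrix (Fin m ⊕ Fin m) (Fin m ⊕ Fin m) F) * S ∧ S * S = 1 := by
  have hA1 : (A : Matrix (Fin m ⊕ Fin m) (Fin m ⊕ Fin m) F) * (A⁻¹ : Matrix.symplecticGroup (Fin m) F) = 1 :=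
    congrArg Subtype.val (mul_inv_cancel A)
  let g : GL (Fin m ⊕ Fin m) F := ⟨A, (A⁻¹ : Matrix.symplecticGroup (Fin m) F), hA1, mul_eq_one_comm.1 hA1⟩
  have hA2 : (A : Matrix (Fin m ⊕ Fin m) (Fin m ⊕ Fin m) F)ᵀ * J (Fin m) F * A = J (Fin m) F :=
    SymplecticGroup.mem_iff'.1 A.2
  have hBT : ∀ x y, spB m F (glEquiv g x) (glEquiv g y) = spB m F x y := by
    intro x y
    rw [spB_apply, spB_apply, glEquiv_apply, glEquiv_apply]
    show ((A : Matrix (Fin m ⊕ Fin m) (Fin m ⊕ Fin m) F) *ᵥ x) ⬝ᵥ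
      (J (Fin m) F *ᵥ ((A : Matrix (Fin m ⊕ Fin m) (Fin m ⊕ Fin m) F) *ᵥ y)) = _
    rw [dotProduct_comm, Matrix.dotProduct_mulVec, ← Matrix.mulVec_transpose, Matrix.mulVec_mulVec,
      Matrix.mulVec_mulVec, hA2, dotProduct_comm]
  obtain ⟨σ, hσ1, hσ2, -, hσ5⟩ := Cfsg.Agent.H976.Inv.exists_inverting (glEquiv g)
    (orderOf_pos g) (by rw [← map_pow, pow_orderOf_eq_one, map_one]) (ε := -1) (κ := 0) (by ring) (by ring)
    (spB m F) (fun _ => 0) spB_skew (fun x y => by ring) (fun c x => by ring)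
    (fun x hx => by
      have h1 : ∀ y, x ⬝ᵥ y = 0 := by
        intro y
        have h2 := hx (-(J (Fin m) F *ᵥ y))
        rw [spB_apply, Matrix.mulVec_neg, Matrix.mulVec_mulVec, J_mul_J, Matrix.neg_mulVec, neg_neg,
          Matrix.one_mulVec] at h2
        exact h2
      exact dotProduct_eq_zero x h1)
    hBT (fun _ => rfl)
  have hσ4 : ∀ x y, spB m F (σ x) (σ y) = - spB m F x y := fun x y => by rw [hσ2, spB_skew]; ring
  obtain ⟨S, hS⟩ : ∃ S : GL (Fin m ⊕ Fin m) F, S = glEquiv.symm σ := ⟨_, rfl⟩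
  have hSv : ∀ v, (S : Matrix (Fin m ⊕ Fin m) (Fin m ⊕ Fin m) F) *ᵥ v = σ v := fun v => by
    rw [hS, glEquiv_symm_mulVec]
  have hS1 : (S : Matrix (Fin m ⊕ Fin m) (Fin m ⊕ Fin m) F)ᵀ * J (Fin m) F * S = - J (Fin m) F := by
    apply Matrix.ext_of_mulVec_single
    intro i
    apply dotProduct_eq
    intro x
    have h1 := hσ4 x (Pi.single i 1)
    rw [← hSv, ← hSv, spB_apply, spB_apply] at h1
    rw [Matrix.neg_mulVec, neg_dotProduct, ← Matrix.mulVec_mulVec, ← Matrix.mulVec_mulVec, Matrix.mulVec_transpose,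
      ← Matrix.dotProduct_mulVec, dotProduct_comm, dotProduct_comm _ x]
    rw [dotProduct_comm] at h1
    rw [dotProduct_comm]
    exact h1
  refine ⟨S, ?_, ?_, ?_⟩
  · have h1 : (S : Matrix (Fin m ⊕ Fin m) (Fin m ⊕ Fin m) F) *
        (J (Fin m) F * (S : Matrix (Fin m ⊕ Fin m) (Fin m ⊕ Fin m) F)ᵀ * J (Fin m) F) = 1 := by
      rw [mul_eq_one_comm, Matrix.mul_assoc, Matrix.mul_assoc, ← Matrix.mul_assoc _ (J (Fin m) F), hS1,
        Matrix.mul_neg, J_mul_J, neg_neg]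
    calc (S : Matrix (Fin m ⊕ Fin m) (Fin m ⊕ Fin m) F) * J (Fin m) F *
          (S : Matrix (Fin m ⊕ Fin m) (Fin m ⊕ Fin m) F)ᵀ
        = -(((S : Matrix (Fin m ⊕ Fin m) (Fin m ⊕ Fin m) F) *
        (J (Fin m) F * (S : Matrix (Fin m ⊕ Fin m) (Fin m ⊕ Fin m) F)ᵀ * J (Fin m) F)) * J (Fin m) F) := by
          simp only [Matrix.mul_assoc]
          rw [J_mul_J]
          simp only [Matrix.mul_neg, Matrix.mul_one, neg_neg]
      _ = _ := by rw [h1, Matrix.one_mul]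
  · have h1 : S * g = g⁻¹ * S := by
      apply glEquiv.injective
      rw [map_mul, map_mul, hS, MulEquiv.apply_symm_apply, map_inv]
      apply LinearEquiv.ext
      intro x
      exact hσ1 x
    exact congrArg Units.val h1
  · apply glEquiv.injective
    rw [map_mul, hS, MulEquiv.apply_symm_apply, map_one]
    apply LinearEquiv.ext
    intro x
    exact hσ5 x

/-- in characteristic two every symplectic matrix is a product of two symplectic matrices of order at most two -/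
theorem sp_eq_mul_invol [Finite F] (h2 : (2 : F) = 0) (A : Matrix.symplecticGroup (Fin m) F) :
    ∃ s t : Matrix.symplecticGroup (Fin m) F, s * s = 1 ∧ t * t = 1 ∧ A = s * t := by
  obtain ⟨S, hS1, hS2, hS3⟩ := sp_anti A
  have hneg : - J (Fin m) F = J (Fin m) F := by
    ext i j
    rw [Matrix.neg_apply]
    linear_combination (-(J (Fin m) F i j)) * h2
  have hS4 : (S : Matrix (Fin m ⊕ Fin m) (Fin m ⊕ Fin m) F) * (S : Matrix (Fin m ⊕ Fin m) (Fin m ⊕ Fin m) F) = 1 :=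
    congrArg Units.val hS3
  let c : Matrix.symplecticGroup (Fin m) F := ⟨S, by rw [SymplecticGroup.mem_iff, hS1, hneg]⟩
  have hc1 : c * c = 1 := Subtype.ext hS4
  have hc2 : c * A = A⁻¹ * c := Subtype.ext hS2
  refine ⟨A * c, c, ?_, hc1, ?_⟩
  · calc A * c * (A * c) = A * (c * A) * c := by group
      _ = 1 := by rw [hc2]; rw [← mul_assoc, mul_inv_cancel, one_mul, hc1]
  · rw [mul_assoc, hc1, mul_one]

/-- conjugation by an anti-symplectic matrix -/
def spConj (S : (Matrix (Fin m ⊕ Fin m) (Fin m ⊕ Fin m) F)ˣ)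
    (hS : (S : Matrix (Fin m ⊕ Fin m) (Fin m ⊕ Fin m) F) * J (Fin m) F *
      (S : Matrix (Fin m ⊕ Fin m) (Fin m ⊕ Fin m) F)ᵀ = - J (Fin m) F) :
    Matrix.symplecticGroup (Fin m) F → Matrix.symplecticGroup (Fin m) F := fun M =>
  ⟨(S : Matrix (Fin m ⊕ Fin m) (Fin m ⊕ Fin m) F) * M * ((S⁻¹ : (Matrix (Fin m ⊕ Fin m) (Fin m ⊕ Fin m) F)ˣ) :
    Matrix (Fin m ⊕ Fin m) (Fin m ⊕ Fin m) F), by
    rw [SymplecticGroup.mem_iff]
    have hM := SymplecticGroup.mem_iff.1 M.2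
    have h1 : ((S⁻¹ : (Matrix (Fin m ⊕ Fin m) (Fin m ⊕ Fin m) F)ˣ) : Matrix (Fin m ⊕ Fin m) (Fin m ⊕ Fin m) F) *
        J (Fin m) F * ((S⁻¹ : (Matrix (Fin m ⊕ Fin m) (Fin m ⊕ Fin m) F)ˣ) :
          Matrix (Fin m ⊕ Fin m) (Fin m ⊕ Fin m) F)ᵀ = - J (Fin m) F := by
      have h2 : J (Fin m) F = -((S : Matrix (Fin m ⊕ Fin m) (Fin m ⊕ Fin m) F) * J (Fin m) F *
        (S : Matrix (Fin m ⊕ Fin m) (Fin m ⊕ Fin m) F)ᵀ) := by rw [hS, neg_neg]
      have h3 : (S : Matrix (Fin m ⊕ Fin m) (Fin m ⊕ Fin m) F)ᵀ *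
          ((S⁻¹ : (Matrix (Fin m ⊕ Fin m) (Fin m ⊕ Fin m) F)ˣ) : Matrix (Fin m ⊕ Fin m) (Fin m ⊕ Fin m) F)ᵀ = 1 := by
        rw [← Matrix.transpose_mul, Units.inv_mul, Matrix.transpose_one]
      calc _ = -((((S⁻¹ : (Matrix (Fin m ⊕ Fin m) (Fin m ⊕ Fin m) F)ˣ) : Matrix (Fin m ⊕ Fin m) (Fin m ⊕ Fin m) F) *
            (S : Matrix (Fin m ⊕ Fin m) (Fin m ⊕ Fin m) F)) * J (Fin m) F *
            ((S : Matrix (Fin m ⊕ Fin m) (Fin m ⊕ Fin m) F)ᵀ *
          ((S⁻¹ : (Matrix (Fin m ⊕ Fin m) (Fin m ⊕ Fin m) F)ˣ) : Matrix (Fin m ⊕ Fin m) (Fin m ⊕ Fin m) F)ᵀ)) := by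
            conv_lhs => rw [h2]
            simp only [Matrix.mul_neg, Matrix.neg_mul, Matrix.mul_assoc]
        _ = _ := by rw [h3, Units.inv_mul, Matrix.one_mul, Matrix.mul_one]
    rw [Matrix.transpose_mul, Matrix.transpose_mul]
    calc _ = (S : Matrix (Fin m ⊕ Fin m) (Fin m ⊕ Fin m) F) * ((M : Matrix (Fin m ⊕ Fin m) (Fin m ⊕ Fin m) F) *
          (((S⁻¹ : (Matrix (Fin m ⊕ Fin m) (Fin m ⊕ Fin m) F)ˣ) : Matrix (Fin m ⊕ Fin m) (Fin m ⊕ Fin m) F) *
        J (Fin m) F * ((S⁻¹ : (Matrix (Fin m ⊕ Fin m) (Fin m ⊕ Fin m) F)ˣ) :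
          Matrix (Fin m ⊕ Fin m) (Fin m ⊕ Fin m) F)ᵀ) * (M : Matrix (Fin m ⊕ Fin m) (Fin m ⊕ Fin m) F)ᵀ) *
          (S : Matrix (Fin m ⊕ Fin m) (Fin m ⊕ Fin m) F)ᵀ := by simp only [Matrix.mul_assoc]
      _ = J (Fin m) F := by
        rw [h1, Matrix.mul_neg, Matrix.neg_mul, hM, Matrix.mul_neg, Matrix.neg_mul, hS, neg_neg]⟩

theorem amb_sp [Finite F] : Amb (Matrix.symplecticGroup (Fin m) F) := by
  intro x
  obtain ⟨S, hS, hSx, -⟩ := sp_anti x
  let α : Matrix.symplecticGroup (Fin m) F →* Matrix.symplecticGroup (Fin m) F :=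
    { toFun := spConj S hS
      map_one' := by
        apply Subtype.ext
        show (S : Matrix (Fin m ⊕ Fin m) (Fin m ⊕ Fin m) F) * 1 * _ = 1
        rw [Matrix.mul_one, Units.mul_inv]
      map_mul' := by
        intro a b
        apply Subtype.ext
        show (S : Matrix (Fin m ⊕ Fin m) (Fin m ⊕ Fin m) F) * (_ * _) * _ = (_ * _ * _) * (_ * _ * _)
        simp only [Matrix.mul_assoc]
        rw [← Matrix.mul_assoc _ (S : Matrix (Fin m ⊕ Fin m) (Fin m ⊕ Fin m) F), Units.inv_mul, Matrix.one_mul] }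
  have hinj : Function.Injective α := by
    intro a b hab
    apply Subtype.ext
    have h1 : (S : Matrix (Fin m ⊕ Fin m) (Fin m ⊕ Fin m) F) * a * ((S⁻¹ : (Matrix (Fin m ⊕ Fin m) (Fin m ⊕ Fin m) F)ˣ) :
      Matrix (Fin m ⊕ Fin m) (Fin m ⊕ Fin m) F) = (S : Matrix (Fin m ⊕ Fin m) (Fin m ⊕ Fin m) F) * b *
      ((S⁻¹ : (Matrix (Fin m ⊕ Fin m) (Fin m ⊕ Fin m) F)ˣ) : Matrix (Fin m ⊕ Fin m) (Fin m ⊕ Fin m) F) :=
      congrArg Subtype.val hab
    exact S.isUnit.mul_left_cancel ((S⁻¹).isUnit.mul_right_cancel h1)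
  have hfin : Finite (Matrix.symplecticGroup (Fin m) F) := inferInstance
  refine ⟨MulEquiv.ofBijective α (Finite.injective_iff_bijective.1 hinj), ?_⟩
  apply Subtype.ext
  show (S : Matrix (Fin m ⊕ Fin m) (Fin m ⊕ Fin m) F) * x * ((S⁻¹ : (Matrix (Fin m ⊕ Fin m) (Fin m ⊕ Fin m) F)ˣ) :
      Matrix (Fin m ⊕ Fin m) (Fin m ⊕ Fin m) F) = _
  rw [hSx, Matrix.mul_assoc, Units.mul_inv, Matrix.mul_one]

theorem row_psp {S : Type*} [Group S] [Finite S] (h : Cfsg.IsPSp S) : Cfsg.Agent.H505.Cop.CopRow S := by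
  obtain ⟨F, _, _, m, -, -, ⟨e⟩⟩ := h
  have h1 : Amb (Cfsg.PSp m F) :=
    (amb_sp (m := m) (F := F)).quot (Subgroup.center (Matrix.symplecticGroup (Fin m) F))
  exact (h1.congr e.symm).cop

end Sp

end Cfsg.Agent.H976.Cop
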