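import Cfsg.Agent.H505.Cop.Small
import Cfsg.Agent.Mrg.Omega.ML.LieRow.Lie

/-!
# Rows `Sz(q)`, `²G₂(q)`, `²F₄(q)` of S4175 (by helper505's criteria)
-/

set_option autoImplicit false

namespace Cfsg.Agent.H976.Cop

open Cfsg.Agent.H505.Cop in
/-- transport of the row predicate -/
theorem copRow_congr {G H : Type*} [Group G] [Group H] (e : G ≃* H) (h : CopRow G) : CopRow H := by
  intro p hp V _ _ _ ρ hirr hnt A B hAB a b ha hb
  refine h p V (ρ.comp e.toMonoidHom) ?_ ?_ (A.comap e.toMonoidHom) (B.comap e.toMonoidHom) ?_ a b ?_ ?_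
  · intro W hW
    exact hirr W fun x w hw => by
      have h1 := hW (e.symm x) w hw
      have h2 : (ρ.comp e.toMonoidHom) (e.symm x) = ρ x := by
        show ρ (e (e.symm x)) = _
        rw [e.apply_symm_apply]
      rwa [h2] at h1
  · obtain ⟨x, v, hv⟩ := hnt
    refine ⟨e.symm x, v, ?_⟩
    show ρ (e (e.symm x)) v ≠ v
    rwa [e.apply_symm_apply]
  · rw [Subgroup.index_comap_of_surjective _ e.surjective, Subgroup.index_comap_of_surjective _ e.surjective]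
    exact hAB
  · intro x hx
    exact ha _ hx
  · intro x hx
    exact hb _ hx

section Ree

open Cfsg.Agent.FixBN Cfsg.Agent.FixBN.ReeSplit Cfsg.Agent.LieRecognition.ReeAbs Cfsg.Agent.LieRecognition.ReeSylowThree

theorem comm_of_dec' {G : Type*} [Group G] {B U : Subgroup G} {D : Set G} (hn : ∀ b ∈ B, ∀ u ∈ U, b * u * b⁻¹ ∈ U)
    (hDB : ∀ t ∈ D, t ∈ B) (hd : ∀ b ∈ B, ∃ u ∈ U, ∃ t ∈ D, b = u * t) (hab : ∀ s ∈ D, ∀ t ∈ D, s * t = t * s) :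
    ∀ x ∈ B, ∀ y ∈ B, x * y * x⁻¹ * y⁻¹ ∈ U := by
  intro x hx y hy
  obtain ⟨u, hu, t, ht, rfl⟩ := hd x hx
  obtain ⟨v, hv, s, hs, rfl⟩ := hd y hy
  have h1 := hn t (hDB t ht) v hv
  have h2 := hn s (hDB s hs) u⁻¹ (inv_mem hu)
  have e : u * t * (v * s) * (u * t)⁻¹ * (v * s)⁻¹ = u * (t * v * t⁻¹) * (s * u⁻¹ * s⁻¹) * v⁻¹ := by
    have h3 := hab t ht s hs
    have h4 : t * s * t⁻¹ = s := by rw [h3]; group
    calc u * t * (v * s) * (u * t)⁻¹ * (v * s)⁻¹ = u * (t * v * t⁻¹) * ((t * s * t⁻¹) * u⁻¹ * s⁻¹) * v⁻¹ := by group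
      _ = _ := by rw [h4]
  rw [e]
  exact mul_mem (mul_mem (mul_mem hu h1) h2) (inv_mem hv)

theorem row_ree {S : Type*} [Group S] [Finite S] [hS : IsSimpleGroup S] (h : Cfsg.Lie.IsoRee S) :
    Cfsg.Agent.H505.Cop.CopRow S := by
  obtain ⟨K, i1, i2, m, -, hK, ⟨e⟩⟩ := h
  have hs : IsSimpleGroup ↥(Cfsg.Lie.twistedG2 K (3 ^ m)) := e.symm.isSimpleGroup
  have hfin : Finite ↥(Cfsg.Lie.twistedG2 K (3 ^ m)) := Finite.of_equiv _ e.toEquiv
  refine copRow_congr e.symm ?_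
  obtain ⟨U, h, n, D⟩ := Cfsg.Agent.ChevalleyStructure.Ree.Data.exists_data hK
  refine Cfsg.Agent.H505.Cop.copRow_of_split_one (bnPair D) (uSub D) (s := n) rfl (split hK D) ?_
  refine comm_of_dec' (D := {g | ∃ a, g = h a}) (split hK D).norm ?_ ?_ ?_
  · rintro _ ⟨a, rfl⟩
    exact h_mem_bSub D a
  · intro b hb
    obtain ⟨u, hu, a, rfl⟩ := hb
    exact ⟨u, hu, _, ⟨a, rfl⟩, rfl⟩
  · rintro _ ⟨a, rfl⟩ _ ⟨b, rfl⟩
    rw [← D.h_mul, ← D.h_mul, mul_comm]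

end Ree

section Sz

open Cfsg.Agent.Omega.ML.LieRow

theorem row_sz {S : Type*} [Group S] [Finite S] [hS : IsSimpleGroup S] (h : Cfsg.Lie.IsoSuzuki S) :
    Cfsg.Agent.H505.Cop.CopRow S := by
  obtain ⟨K, i1, i2, m, hm, hK, ⟨e⟩⟩ := h
  have H := LieRecognition.SzMatrix.good hK
  have hs : IsSimpleGroup ↥(Cfsg.Lie.Sz K (2 ^ (m + 1))) := e.symm.isSimpleGroup
  have hfin : Finite ↥(Cfsg.Lie.Sz K (2 ^ (m + 1))) := Finite.of_equiv _ e.toEquiv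
  refine copRow_congr e.symm ?_
  refine Cfsg.Agent.H505.Cop.copRow_of_split_one (SzSplit.bnPair H) H.unip (s := H.w) rfl (SzSplit.split hm hK H hs) ?_
  refine comm_of_dec' (D := {g | ∃ a, g = H.d a}) (SzSplit.split hm hK H hs).norm ?_ ?_ ?_
  · rintro _ ⟨a, rfl⟩
    exact H.d_mem_borel a
  · intro b hb
    obtain ⟨a, c, k, rfl⟩ := (H.mem_borel_iff' b).1 hb
    exact ⟨H.u a c, H.u_mem_unip a c, _, ⟨k, rfl⟩, rfl⟩
  · rintro _ ⟨a, rfl⟩ _ ⟨b, rfl⟩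
    rw [H.d_mul, H.d_mul, mul_comm]

end Sz

end Cfsg.Agent.H976.Cop
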