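import Cfsg.Agent.H976.Cop.RowFG

/-!
# Row `³D₄(q)` of S4175
-/

set_option autoImplicit false

namespace Cfsg.Agent.H976.RowTD

open CoxeterSystem Cfsg.Agent.ChevalleyStructure.CoxeterGeom Cfsg.Agent.Tits.Roots Cfsg.Agent.Tits.Core
  Cfsg.Agent.Tits.Exchange Cfsg.Agent.Nodes.Reps Cfsg.Agent.Nodes.BNOf Cfsg.Agent.Nodes.StabComb
  Cfsg.Agent.Nodes.Bruhat Cfsg.Agent.Nodes.OppDec Cfsg.Agent.Nodes.LeviDec Cfsg.Agent.Nodes.NormalForm
open Cfsg.Lie Cfsg.Agent.ChevalleyStructure Cfsg.Agent.Nodes.RGDTwD4 Cfsg.Agent.H35.ExcIdx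
open Cfsg.Agent.Nodes.RGDTwGen Cfsg.Agent.Nodes.RGDChev Cfsg.Agent.Nodes.RGDFold

universe u

variable {K : Type u} [Field K] [Fintype K] {q : ℕ} {φ : K →+* K}

theorem card_X (hφ : ∀ x, φ x = x ^ q) (hq : 1 < q) (hK : Fintype.card K = q ^ 3) (i : Fin 2) :
    Nat.card ↥(X φ q (sr i)) = if i = 0 then q else q ^ 3 := by
  have hle := D4Fixed.twisted_le_fix hK hφ
  have key : ∀ (S : Subgroup (GL chevD4.Idx K)), R chevD4 hp K J (D4Fixed.sig φ) (sr i) = S ⊓ D4Fixed.fix φ →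
      Nat.card ↥(X φ q (sr i)) = Nat.card {x : GL chevD4.Idx K // x ∈ (S : Set (GL chevD4.Idx K)) ∧
        x ∈ twistedD4 K q} := by
    intro S hS
    unfold X
    rw [hS]
    refine Nat.card_congr
      { toFun := fun x => ⟨x.1.1, (Subgroup.mem_inf.1 (Subgroup.mem_subgroupOf.1 x.2)).1, x.1.2⟩
        invFun := fun x => ⟨⟨x.1, x.2.2⟩, Subgroup.mem_subgroupOf.2 (Subgroup.mem_inf.2 ⟨x.2.1, hle x.2.2⟩)⟩
        left_inv := fun x => rfl
        right_inv := fun x => rfl }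
  fin_cases i
  · exact (key _ (R0 φ)).trans (TwD4Card.card_X0 hq hK hφ hle)
  · exact (key _ (R1 φ)).trans (TwD4Card.card_X1 hK hφ hle)

theorem path1 : PathOK CoxeterMatrix.G₂ [1] [1] [] 0 := by constructor <;> decide +kernel
theorem path0 : PathOK CoxeterMatrix.G₂ [0] [0] [] 0 := by constructor <;> decide +kernel

/-- the numbers -/
theorem num {q i N : ℕ} (hq : 2 ≤ q) (hN : N = 1 + q ^ 3 ∨ N = 1 + q)
    (h : i * N * ((q - 1) ^ 2 * (q ^ 2 + q + 1)) = (q ^ 2 - 1) * (q ^ 6 - 1) * (q ^ 8 + q ^ 4 + 1))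
    {s : ℕ} (hs : s.Prime) (hsN : s ∣ N) : s ∣ i := by
  obtain ⟨x, rfl⟩ : ∃ x, q = x + 1 := ⟨q - 1, by omega⟩
  have hx : 0 < x := by omega
  have e1 : (x + 1) ^ 2 - 1 = x * (x + 2) := by
    apply Nat.sub_eq_of_eq_add; ring
  have e2 : (x + 1) ^ 6 - 1 = x * ((x + 1) ^ 2 + (x + 1) + 1) * (1 + (x + 1) ^ 3) := by
    apply Nat.sub_eq_of_eq_add; ring
  have e3 : (1 + (x + 1) ^ 3) = (1 + (x + 1)) * (x ^ 2 + x + 1) := by ring
  have e4 : (x + 1) ^ 8 + (x + 1) ^ 4 + 1 =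
      (x ^ 2 + x + 1) * (((x + 1) ^ 2 + (x + 1) + 1) * ((x + 1) ^ 4 - (x + 1) ^ 2 + 1)) := by
    have h1 : (x + 1) ^ 2 ≤ (x + 1) ^ 4 := Nat.pow_le_pow_right (by omega) (by norm_num)
    zify [h1]
    ring
  rw [e1, e2, Nat.add_sub_cancel] at h
  rcases hN with rfl | rfl
  · have h1 : i = (1 + (x + 1)) * ((x + 1) ^ 8 + (x + 1) ^ 4 + 1) := by
      have hpos : 0 < (1 + (x + 1) ^ 3) * (x ^ 2 * ((x + 1) ^ 2 + (x + 1) + 1)) := by positivity
      apply Nat.eq_of_mul_eq_mul_right hpos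
      calc i * ((1 + (x + 1) ^ 3) * (x ^ 2 * ((x + 1) ^ 2 + (x + 1) + 1)))
          = i * (1 + (x + 1) ^ 3) * (x ^ 2 * ((x + 1) ^ 2 + (x + 1) + 1)) := by ring
        _ = _ := by rw [h]; ring
    rw [e3] at hsN
    rw [h1]
    rcases hs.dvd_mul.1 hsN with h2 | h2
    · exact dvd_mul_of_dvd_left h2 _
    · refine dvd_mul_of_dvd_right ?_ _
      rw [e4]
      exact dvd_mul_of_dvd_left h2 _
  · have h1 : i = (1 + (x + 1) ^ 3) * ((x + 1) ^ 8 + (x + 1) ^ 4 + 1) := by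
      have hpos : 0 < (1 + (x + 1)) * (x ^ 2 * ((x + 1) ^ 2 + (x + 1) + 1)) := by positivity
      apply Nat.eq_of_mul_eq_mul_right hpos
      calc i * ((1 + (x + 1)) * (x ^ 2 * ((x + 1) ^ 2 + (x + 1) + 1)))
          = i * (1 + (x + 1)) * (x ^ 2 * ((x + 1) ^ 2 + (x + 1) + 1)) := by ring
        _ = _ := by rw [h]; ring
    rw [h1, e3]
    exact dvd_mul_of_dvd_left (dvd_mul_of_dvd_left hsN _) _

/-- **The row of `³D₄(q)`.** -/
theorem row {K : Type u} [Field K] [Fintype K] {q : ℕ} (hq : IsPrimePow q) (hK : Fintype.card K = q ^ 3)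
    (hs : IsSimpleGroup ↥(twistedD4 K q)) : Cfsg.Agent.H505.Cop.CopRow ↥(twistedD4 K q) := by
  obtain ⟨φ, hφ⟩ := D4Fixed.exists_frob hq hK
  have : Finite (GL chevD4.Idx K) := inferInstance
  obtain ⟨p, hcp⟩ := CharP.exists K
  have hp' : Fact p.Prime := ⟨CharP.char_is_prime K p⟩
  have h2 : 2 ≤ q := hq.two_le
  obtain ⟨r, f, hr, hf, hrf⟩ := hq
  have hr' : r.Prime := hr.nat_prime
  have hpr : p = r := by
    obtain ⟨n, hpp, hn⟩ := FiniteField.card K p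
    have h3 : p ∣ r := by
      have h4 : p ∣ Fintype.card K := by rw [hn]; exact dvd_pow_self p n.pos.ne'
      rw [hK, ← hrf, ← pow_mul] at h4
      exact hpp.dvd_of_dvd_pow h4
    exact (Nat.prime_dvd_prime_iff_eq hpp hr').1 h3
  subst hpr
  have hq' : IsPrimePow q := ⟨p, f, hr, hf, hrf⟩
  have hfin : Finite CoxeterMatrix.G₂.Group := Nodes.RGDFold.finite_W (hp := hp)
    CoxeterMatrix.G₂.toCoxeterSystem isCartan foldData
  have hR := rgd CoxeterMatrix.G₂.toCoxeterSystem hK hφ p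
  have hG1 : Nodes.RGDLib.G1 CoxeterMatrix.G₂.toCoxeterSystem isCartan (X φ q) = ⊤ := G1_eq_top _ hK hφ
  have hGG : GG CoxeterMatrix.G₂.toCoxeterSystem isCartan (T K q) (X φ q) = ⊤ := by
    rw [eq_top_iff, ← hG1]
    exact le_sup_right
  have hc := card_X hφ (by omega) hK
  have hN1 := card_step hR path1 (y := q ^ 3) (fun i hi => by
    rw [List.mem_singleton] at hi
    rw [hc, hi]
    rfl) (card_nil hR)
  have hN0 := card_step hR path0 (y := q) (fun i hi => by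
    rw [List.mem_singleton] at hi
    rw [hc, hi]
    rfl) (card_nil hR)
  have hT : 1 * Nat.card ↥(T K q) = (q - 1) ^ 2 * (q ^ 2 + q + 1) := by
    rw [one_mul, ← Cfsg.Agent.S1106.result hq' hK]
    exact Nat.card_congr (Subgroup.subgroupOfEquivOfLe inf_le_right).toEquiv
  have hS : 1 * Nat.card ↥(twistedD4 K q) = p ^ (f * 12) * ((q ^ 2 - 1) * (q ^ 6 - 1) * (q ^ 8 + q ^ 4 + 1)) := by
    rw [one_mul, Cfsg.Agent.S1067.result hq' hK, pow_mul, hrf]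
    ring
  have hpq : p ∣ q := by rw [← hrf]; exact dvd_pow_self p hf.ne'
  have hsub : ∀ k, k ≠ 0 → ¬ p ∣ q ^ k - 1 := by
    intro k hk h3
    have h4 : p ∣ q ^ k := dvd_pow hpq hk
    have h5 : 1 ≤ q ^ k := Nat.one_le_pow _ _ (by omega)
    have h6 := Nat.dvd_sub h4 h3
    rw [Nat.sub_sub_self h5] at h6
    exact hr'.one_lt.ne' (Nat.dvd_one.1 h6)
  have hP : ¬ p ∣ (q ^ 2 - 1) * (q ^ 6 - 1) * (q ^ 8 + q ^ 4 + 1) := by
    rw [hr'.dvd_mul, hr'.dvd_mul]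
    rintro ((h3 | h3) | h3)
    · exact hsub 2 (by norm_num) h3
    · exact hsub 6 (by norm_num) h3
    · have h4 : p ∣ q ^ 8 + q ^ 4 := dvd_add (dvd_pow hpq (by norm_num)) (dvd_pow hpq (by norm_num))
      exact hr'.one_lt.ne' (Nat.dvd_one.1 ((Nat.dvd_add_right h4).1 h3))
  have hF1 : FA [(1 : Fin 2)].length (q ^ 3) * 1 = 1 + q ^ 3 := by simp [FA, Finset.sum_range_succ]
  have hF0 : FA [(0 : Fin 2)].length q * 1 = 1 + q := by simp [FA, Finset.sum_range_succ]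
  rw [hF1] at hN1
  rw [hF0] at hN0
  have key : ∀ (J : Set (Fin 2)) (N : ℕ), (N = 1 + q ^ 3 ∨ N = 1 + q) →
      Nat.card ↥(PJ CoxeterMatrix.G₂.toCoxeterSystem isCartan (T K q) (X φ q) J) =
        N * Nat.card ↥(RGD.B CoxeterMatrix.G₂.toCoxeterSystem isCartan (T K q) (X φ q)) →
      ∀ s : ℕ, s.Prime → s ∣ N →
        s ∣ (PJ CoxeterMatrix.G₂.toCoxeterSystem isCartan (T K q) (X φ q) J).index := by
    intro J N hN hcard s hs hsN
    exact num h2 hN (index_eq hR hGG hcard (d := 1) (fun h => hr'.one_lt.ne' (Nat.dvd_one.1 h)) hT hS hP) hs hsN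
  have hset : ∀ i : Fin 2, ({j | j ≠ i} : Set (Fin 2)) = {j | j ∈ (![([1] : List (Fin 2)), [0]] i)} := by
    intro i
    ext j
    show j ≠ i ↔ j ∈ _
    revert i j
    decide
  refine Cfsg.Agent.H505.Cop.copRow_of_rgd' hR hG1 (fun s hs t ht =>
      Subtype.ext (OddHalf.Small.ChevCent.diag_comm Nodes.RGDTwD4.hp.inList
        (Subgroup.mem_inf.1 (Subgroup.mem_subgroupOf.1 hs)).1
        (Subgroup.mem_inf.1 (Subgroup.mem_subgroupOf.1 ht)).1)) (![1 + q ^ 3, 1 + q]) ?_ ?_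
  · intro i
    rw [hset]
    fin_cases i
    · exact hN1
    · exact hN0
  · intro i s hs hsN
    rw [hset]
    fin_cases i
    · exact key _ _ (Or.inl rfl) hN1 s hs hsN
    · exact key _ _ (Or.inr rfl) hN0 s hs hsN

end Cfsg.Agent.H976.RowTD

namespace Cfsg.Agent.H976.Cop

/-- **Row `³D₄(q)`.** -/
theorem row_3D4 {S : Type*} [Group S] [Finite S] [hS : IsSimpleGroup S] (h : Cfsg.Lie.Iso3D4 S) :
    Cfsg.Agent.H505.Cop.CopRow S := by
  obtain ⟨K, i1, i2, q, hq, hK, ⟨e⟩⟩ := h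
  have hs : IsSimpleGroup ↥(Cfsg.Lie.twistedD4 K q) := e.symm.isSimpleGroup
  exact copRow_congr e.symm (RowTD.row hq hK hs)

end Cfsg.Agent.H976.Cop
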