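import Cfsg.Agent.H976.Cop.RowRank1
import Cfsg.Agent.S1068
import Cfsg.Agent.S1090
import Cfsg.Agent.S1110

/-!
# Row `²F₄(q)` of S4175 (the (B,N)-pair and the sizes of the panels as in helper69's `H69/OctTwF`)
-/

set_option autoImplicit false
set_option linter.unusedSectionVars false

namespace Cfsg.Agent.H976.TwF

open Cfsg.Lie
open Cfsg.Agent.ChevalleyStructure.TwF4.Tables
open Cfsg.Agent.ChevalleyStructure.TwF4.Rel
open Cfsg.Agent.ChevalleyStructure.TwF4.Groups Cfsg.Agent.ChevalleyStructure.TwF4.RankOne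
open Cfsg.Agent.ChevalleyStructure.TwF4.Twisted Cfsg.Agent.ChevalleyStructure.TwF4.TwistedFix
open Cfsg.Agent.ChevalleyStructure.TwF4.BN
open Cfsg.Agent.ChevalleyStructure.TwF4.Torus (T chi T_conj_X T_inr chi_def)
open Cfsg.Agent.ChevalleyStructure.F4NTab (ca)
open Cfsg.Agent.ChevalleyStructure.TwF4.TwGen (tc tc_mul chi_tc_24 chi_tc_25 chi_tc_33 chi_tc_27 chi28 chi30 pow_all
  n1_eq n2_eq n1_conj_T n2_conj_T)
open Cfsg.Agent.ChevalleyStructure.TwF4.TorusFix (mem_iff pow_unit T_rt rt)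
open Cfsg.Agent.ChevalleyStructure.TwF4.Fix (Fix)
open Cfsg.Agent.ChevalleyStructure.TwF4.OrderCls (X_inj)
open Cfsg.Agent.Schreier.TwFFour Cfsg.Agent.Schreier.BNSch
open Cfsg.Agent.ParSys.Fam.TwoFFour Cfsg.Agent.FixBN

variable {K : Type*} [Field K] [Fintype K] [CharP K 2] {e : ℕ} {φ : K →+* K}

theorem relIndex_V1 (hφ : Rln φ e) : (V1 K e).relIndex (U0 K e) = Nat.card K := by
  have he : e ≠ 0 := hφ.pos.ne'
  let f : K → ↥(U0 K e) ⧸ (V1 K e).subgroupOf (U0 K e) := fun t =>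
    QuotientGroup.mk (⟨⟨xa e t, xa_mem t⟩, xa_U t⟩ : ↥(U0 K e))⁻¹
  rw [Subgroup.relIndex, Subgroup.index_eq_card]
  refine (Nat.card_congr (_root_.Equiv.ofBijective f ⟨?_, ?_⟩)).symm
  · intro t t' h
    have h1 : xa e t * (xa e t')⁻¹ ∈ GA K (geB 2) := by
      have h2 := QuotientGroup.eq.1 h
      rw [inv_inv] at h2
      exact h2
    have h2 : xa e t = xa e (t - t') * xa e t' := by rw [← xa_add hφ, sub_add_cancel]
    rw [h2, mul_inv_cancel_right] at h1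
    exact sub_eq_zero.1 (xa_ge2 he h1)
  · intro x
    induction x using QuotientGroup.induction_on with
    | H u =>
      obtain ⟨v, hv, t, h⟩ := decU_a hφ (inv_mem u.2)
      refine ⟨t, ?_⟩
      show QuotientGroup.mk _ = QuotientGroup.mk _
      rw [QuotientGroup.eq, inv_inv]
      show ((⟨xa e t, xa_mem t⟩ : ↥(twistedF4 K e)) * (u : ↥(twistedF4 K e))) ∈ V1 K e
      have h1 : (⟨xa e t, xa_mem t⟩ : ↥(twistedF4 K e)) * (u : ↥(twistedF4 K e)) = v⁻¹ := by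
        have h2 : (⟨xa e t, xa_mem t⟩ : ↥(twistedF4 K e)) = v⁻¹ * (u : ↥(twistedF4 K e))⁻¹ := by rw [h]; group
        rw [h2]; group
      rw [h1]
      exact inv_mem hv

theorem xb_inv (hφ : Rln φ e) (t w : K) : (xb e t w)⁻¹ = xb e t (w + t ^ (e + 1)) := by
  rw [inv_eq_iff_mul_eq_one, xb_mul hφ, CharTwo.add_self_eq_zero]
  have h1 : w + (w + t ^ (e + 1)) + t ^ e * t = 0 := by
    rw [← pow_succ, ← add_assoc, CharTwo.add_self_eq_zero, zero_add, CharTwo.add_self_eq_zero]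
  rw [h1, xb_zero hφ]

theorem relIndex_V8 (hφ : Rln φ e) : (V8 K e).relIndex (U0 K e) = Nat.card K ^ 2 := by
  have he : e ≠ 0 := hφ.pos.ne'
  let f : K × K → ↥(U0 K e) ⧸ (V8 K e).subgroupOf (U0 K e) := fun t =>
    QuotientGroup.mk (⟨⟨xb e t.1 t.2, xb_mem t.1 t.2⟩, xb_U t.1 t.2⟩ : ↥(U0 K e))⁻¹
  rw [Subgroup.relIndex, Subgroup.index_eq_card, sq, ← Nat.card_prod]
  refine (Nat.card_congr (_root_.Equiv.ofBijective f ⟨?_, ?_⟩)).symm
  · rintro ⟨t, w⟩ ⟨t', w'⟩ h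
    have h1 : xb e t w * (xb e t' w')⁻¹ ∈ GA K (leB 7) := by
      have h2 := QuotientGroup.eq.1 h
      rw [inv_inv] at h2
      exact h2
    rw [xb_inv hφ, xb_mul hφ] at h1
    have h2 := mul_mem h1 h1
    rw [xb_sq hφ] at h2
    have h3 := xb_le7 he h2
    have h4 : t + t' = 0 := (pow_eq_zero_iff (by omega)).1 h3
    have h5 : t = t' := by
      rw [← CharTwo.sub_eq_add] at h4
      exact sub_eq_zero.1 h4
    subst h5
    rw [h4, ← pow_succ] at h1
    have h6 : w + (w' + t ^ (e + 1)) + t ^ (e + 1) = w + w' := by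
      rw [add_assoc, add_assoc, CharTwo.add_self_eq_zero, add_zero]
    rw [h6] at h1
    have h7 := xb_le7 he h1
    rw [← CharTwo.sub_eq_add] at h7
    rw [sub_eq_zero.1 h7]
  · intro x
    induction x using QuotientGroup.induction_on with
    | H u =>
      obtain ⟨v, hv, t, w, h⟩ := decU_b hφ (inv_mem u.2)
      refine ⟨(t, w), ?_⟩
      show QuotientGroup.mk _ = QuotientGroup.mk _
      rw [QuotientGroup.eq, inv_inv]
      show ((⟨xb e t w, xb_mem t w⟩ : ↥(twistedF4 K e)) * (u : ↥(twistedF4 K e))) ∈ V8 K e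
      have h1 : (⟨xb e t w, xb_mem t w⟩ : ↥(twistedF4 K e)) * (u : ↥(twistedF4 K e)) = v⁻¹ := by
        have h2 : (⟨xb e t w, xb_mem t w⟩ : ↥(twistedF4 K e)) = v⁻¹ * (u : ↥(twistedF4 K e))⁻¹ := by rw [h]; group
        rw [h2]; group
      rw [h1]
      exact inv_mem hv

omit [CharP K 2] in
theorem row {m : ℕ} (hm : 1 ≤ m) (hK : Fintype.card K = 2 ^ (2 * m + 1)) :
    Cfsg.Agent.H505.Cop.CopRow ↥(twistedF4 K (2 ^ m)) := by
  have : CharP K 2 := charP_two hK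
  have : Fact (Nat.Prime 2) := ⟨Nat.prime_two⟩
  obtain ⟨φ, hφ⟩ := exists_rln hK
  obtain ⟨P, hPB, hPN, -, hPS⟩ := Cfsg.Agent.ChevalleyStructure.TwF4.BNIrred.exists_bnPair_irreducible hφ
  have hB : P.B = B0 K (2 ^ m) := hPB
  have hdec := dec hK hφ
  have hUp := isPGroup_U0 hK
  set s1 : ↥(twistedF4 K (2 ^ m)) := ⟨n1 K, n1_mem⟩ with hs1
  set s2 : ↥(twistedF4 K (2 ^ m)) := ⟨n2 K, n2_mem hφ.pos⟩ with hs2
  have node_1 : Cfsg.Agent.Schreier.BNSch.Node P (U0 K (2 ^ m)) s1 (V1 K (2 ^ m)) := node1 hφ hB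
  have node_2 : Cfsg.Agent.Schreier.BNSch.Node P (U0 K (2 ^ m)) s2 (V8 K (2 ^ m)) := node2 hφ hB
  have hdB : ∀ b ∈ P.B, ∃ s t : Kˣ, ∃ u ∈ U0 K (2 ^ m), b = u * tt hdec s t := by
    intro b hb
    rw [hB] at hb
    obtain ⟨s, t, u, hu, hbu⟩ := hdec.1 b hb
    exact ⟨s, t, u, hu, Subtype.ext hbu⟩
  have httB : ∀ s t : Kˣ, tt hdec s t ∈ P.B := fun s t => by rw [hB]; exact tt_B0 hdec s t
  have httN : ∀ s t : Kˣ, tt hdec s t ∈ P.N := fun s t => by
    rw [hPN]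
    exact Cfsg.Agent.ChevalleyStructure.TwF4.NStruct.T_mem_N _
  have hH : ∀ h ∈ P.B, h ∈ P.N → ∃ s t : Kˣ, h = tt hdec s t := by
    intro h hh hN
    rw [hPB, Subgroup.mem_subgroupOf] at hh
    rw [hPN, Subgroup.mem_subgroupOf] at hN
    have h1 := borel_inf_N ⟨hh, hN⟩
    obtain ⟨s, t, hst⟩ := (mem_iff hK (h : GL chevF4.Idx K)).1 ⟨h1, h.2⟩
    exact ⟨s, t, Subtype.ext hst⟩
  have hUB : U0 K (2 ^ m) ≤ P.B := by rw [hB]; exact U0_le_B0
  have hnorm : ∀ b ∈ P.B, ∀ u ∈ U0 K (2 ^ m), b * u * b⁻¹ ∈ U0 K (2 ^ m) := fun b hb u hu => by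
    rw [hB] at hb
    exact conj_U0 hb hu
  have hsplit : FixBN.Split P 2 (U0 K (2 ^ m)) :=
    { le := hUB
      norm := hnorm
      isP := hUp
      cover := fun b hb => by
        obtain ⟨s, t, u, hu, rfl⟩ := hdB b hb
        refine ⟨u, hu, ?_⟩
        rw [inv_mul_cancel_left]
        exact httN s t
      tor := ⟨2 ^ (2 * m + 1) - 1, by
        have h1 : 2 ∣ 2 ^ (2 * m + 1) := dvd_pow_self 2 (by omega)
        have h2 : 0 < 2 ^ (2 * m + 1) := by positivity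
        omega, fun h hh hN => by
        obtain ⟨s, t, rfl⟩ := hH h hh hN
        apply Subtype.ext
        show T (tc (2 ^ m) s t) ^ (2 ^ (2 * m + 1) - 1) = 1
        rw [← map_pow]
        have h2 : tc (2 ^ m) s t ^ (2 ^ (2 * m + 1) - 1) = 1 := by
          have h3 : ∀ x : Kˣ, x ^ (2 ^ (2 * m + 1) - 1) = 1 := by
            intro x
            have h4 := pow_card_eq_one' (x := x)
            rwa [Nat.card_units, Nat.card_eq_fintype_card, hK] at h4
          funext l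
          rw [Pi.pow_apply, h3]; rfl
        rw [h2, map_one]⟩
      node := by
        intro s hs
        rw [hPS] at hs
        rcases hs with rfl | hs
        · exact ⟨_, node_1⟩
        · rw [Set.mem_singleton_iff] at hs
          subst hs
          exact ⟨_, node_2⟩
      core := by
        obtain ⟨hsimp, -⟩ := Cfsg.Agent.S1072.result hm hK
        rcases hsimp.eq_bot_or_eq_top_of_normal P.B.normalCore inferInstance with h | h
        · exact h
        · exfalso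
          have h1 : P.B = ⊤ := by
            rw [eq_top_iff, ← h]
            exact Subgroup.normalCore_le _
          obtain ⟨u, hu, huV⟩ := node_1.ne
          exact huV (node_1.stab u hu (by rw [h1]; exact Subgroup.mem_top _)) }
  have h3 : P.B ⊓ P.N = (chevF4.diagonalSubgroup K ⊓ twistedF4 K (2 ^ m)).subgroupOf (twistedF4 K (2 ^ m)) := by
    rw [hPB, hPN, Subgroup.inf_subgroupOf_right]
    apply le_antisymm
    · rintro x ⟨hx1, hx2⟩
      exact borel_inf_N ⟨hx1, hx2⟩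
    · intro x hx
      have h4 : (x : GL chevF4.Idx K) ∈ chevF4.diagonalSubgroup K := hx
      exact ⟨(le_sup_right : _ ≤ chevF4.posUnipotent K ⊔ chevF4.diagonalSubgroup K) h4,
        (le_sup_left : chevF4.diagonalSubgroup K ≤ chevF4.monomialSubgroup K) h4⟩
  have hsimp : IsSimpleGroup ↥(twistedF4 K (2 ^ m)) := (Cfsg.Agent.S1072.result hm hK).1
  have hfin : Finite ↥(twistedF4 K (2 ^ m)) := inferInstance
  have hcomm : ∀ x ∈ P.B, ∀ y ∈ P.B, x * y * x⁻¹ * y⁻¹ ∈ U0 K (2 ^ m) := by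
    intro x hx y hy
    obtain ⟨s, t, u, hu, rfl⟩ := hdB x hx
    obtain ⟨s', t', u', hu', rfl⟩ := hdB y hy
    have h1 : u * tt hdec s t * (u' * tt hdec s' t') * (u * tt hdec s t)⁻¹ * (u' * tt hdec s' t')⁻¹ =
        u * (tt hdec s t * u' * (tt hdec s t)⁻¹) * (tt hdec s t * tt hdec s' t' * (tt hdec s t)⁻¹ *
          (tt hdec s' t')⁻¹) * (tt hdec s' t' * u⁻¹ * (tt hdec s' t')⁻¹) * u'⁻¹ := by group
    have h2 : tt hdec s t * tt hdec s' t' * (tt hdec s t)⁻¹ * (tt hdec s' t')⁻¹ = 1 := by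
      rw [tt_mul, mul_comm s s', mul_comm t t', ← tt_mul]
      group
    rw [h1, h2, mul_one]
    exact mul_mem (mul_mem (mul_mem hu (tt_conj_U0 hdec s t u' hu')) (tt_conj_U0 hdec s' t' _ (inv_mem hu)))
      (inv_mem hu')
  obtain ⟨q, hq⟩ : ∃ q, q = 2 ^ (2 * m + 1) := ⟨_, rfl⟩
  have hq1 : 1 < q := by rw [hq]; exact Nat.one_lt_two_pow (by omega)
  have cU : Nat.card ↥(U0 K (2 ^ m)) = q ^ 12 := by
    rw [hq, ← Cfsg.Agent.S1090.result hK]
    have h2 : (U0 K (2 ^ m)).map (twistedF4 K (2 ^ m)).subtype = chevF4.posUnipotent K ⊓ twistedF4 K (2 ^ m) := by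
      rw [U0, Subgroup.subgroupOf_map_subtype, posUnipotent_eq]
    rw [← h2]
    exact Nat.card_congr ((U0 K (2 ^ m)).equivMapOfInjective _ (Subgroup.subtype_injective _)).toEquiv
  have cT : Nat.card ↥(P.B ⊓ P.N) = (q - 1) ^ 2 := by
    rw [h3, hq, ← Cfsg.Agent.S1110.result hK]
    exact Nat.card_congr (Subgroup.subgroupOfEquivOfLe inf_le_right).toEquiv
  have hcB : Nat.card P.B = q ^ 12 * (q - 1) ^ 2 := by
    rw [← cU, ← cT]
    have h1 : Subgroup.IsComplement' ((U0 K (2 ^ m)).subgroupOf P.B) ((P.B ⊓ P.N).subgroupOf P.B) := by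
      refine Subgroup.isComplement'_of_disjoint_and_mul_eq_univ ?_ ?_
      · rw [disjoint_iff, eq_bot_iff]
        rintro x ⟨hx1, hx2⟩
        obtain ⟨k, hk, hk'⟩ := hsplit.tor
        have h3 := hk' x x.2 (Subgroup.mem_subgroupOf.1 hx2).2
        obtain ⟨l, hl⟩ := hsplit.isP ⟨_, Subgroup.mem_subgroupOf.1 hx1⟩
        have h4 : ((x : P.B) : ↥(Lie.twistedF4 K (2 ^ m))) ^ 2 ^ l = 1 := congrArg Subtype.val hl
        have h5 := Nat.dvd_gcd (orderOf_dvd_of_pow_eq_one h3) (orderOf_dvd_of_pow_eq_one h4)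
        have h6 : Nat.gcd k (2 ^ l) = 1 :=
          Nat.Coprime.pow_right l (Nat.coprime_comm.1 ((Nat.Prime.coprime_iff_not_dvd Nat.prime_two).2 hk))
        rw [h6, Nat.dvd_one, orderOf_eq_one_iff] at h5
        exact Subtype.ext h5
      · rw [Set.eq_univ_iff_forall]
        intro b
        obtain ⟨u, hu, hun⟩ := hsplit.cover b b.2
        refine Set.mem_mul.2 ⟨⟨u, hsplit.le hu⟩, hu, ⟨u, hsplit.le hu⟩⁻¹ * b, ?_, by group⟩
        exact Subgroup.mem_subgroupOf.2 ⟨SetLike.coe_mem _, hun⟩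
    have h2 := h1.card_mul_card
    have h3 : Nat.card ((U0 K (2 ^ m)).subgroupOf P.B) = Nat.card (U0 K (2 ^ m)) :=
      Nat.card_congr (Subgroup.subgroupOfEquivOfLe hsplit.le).toEquiv
    have h4 : Nat.card ((P.B ⊓ P.N).subgroupOf P.B) = Nat.card ↥(P.B ⊓ P.N) :=
      Nat.card_congr (Subgroup.subgroupOfEquivOfLe inf_le_left).toEquiv
    rw [h3, h4] at h2
    exact h2.symm
  have hidx : P.B.index = (1 + q) * (1 + q ^ 2) * ((1 + q ^ 3) * (1 + q ^ 6)) := by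
    have h1 := P.B.card_mul_index
    rw [hcB, Cfsg.Agent.S1068.result hK, ← hq] at h1
    have hpos : 0 < q ^ 12 * (q - 1) ^ 2 := by
      have : 0 < q - 1 := by omega
      positivity
    apply Nat.eq_of_mul_eq_mul_left hpos
    rw [h1]
    obtain ⟨a, ha⟩ : ∃ a, q = a + 1 := ⟨q - 1, by omega⟩
    have h4 : q ^ 4 - 1 = (q - 1) * ((1 + q) * (1 + q ^ 2)) := by
      rw [ha]
      simp only [Nat.add_sub_cancel]
      apply Nat.sub_eq_of_eq_add
      ring
    rw [h4]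
    ring
  have d1 : (1 + q) ∣ (1 + q ^ 3) := by
    have := Odd.nat_add_dvd_pow_add_pow 1 q (n := 3) (by decide)
    rwa [one_pow] at this
  have d2 : (1 + q ^ 2) ∣ (1 + q ^ 6) := by
    have := Odd.nat_add_dvd_pow_add_pow 1 (q ^ 2) (n := 3) (by decide)
    rwa [one_pow, ← pow_mul] at this
  refine Cfsg.Agent.H505.Cop.copRow_of_split_two P (U0 K (2 ^ m)) hPS hsplit hcomm node_1 node_2 ?_ ?_
  · intro r hr hrd
    rw [relIndex_V1 hφ, Nat.card_eq_fintype_card, hK, ← hq] at hrd ⊢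
    rw [hidx]
    exact (mul_dvd_mul (hrd.trans d1) (dvd_refl (1 + q))).trans ⟨(1 + q ^ 2) * (1 + q ^ 6), by ring⟩
  · intro r hr hrd
    rw [relIndex_V8 hφ, Nat.card_eq_fintype_card, hK, ← hq] at hrd ⊢
    rw [hidx]
    exact (mul_dvd_mul (hrd.trans d2) (dvd_refl (1 + q ^ 2))).trans ⟨(1 + q) * (1 + q ^ 3), by ring⟩

end Cfsg.Agent.H976.TwF

namespace Cfsg.Agent.H976.Cop

theorem row_twF4 {S : Type*} [Group S] [Finite S] [hS : IsSimpleGroup S] (h : Cfsg.Lie.Iso2F4 S) :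
    Cfsg.Agent.H505.Cop.CopRow S := by
  obtain ⟨K, i1, i2, m, hm, hK, ⟨e⟩⟩ := h
  exact copRow_congr e.symm (Cfsg.Agent.H976.TwF.row hm hK)

end Cfsg.Agent.H976.Cop
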